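import Mathlib

/-!
# Involution classes in which non-commuting products have a fixed prime order

`Transp p D`: `D` is a conjugation invariant set of involutions, and the product of two
non-commuting members of `D` has order `p ≥ 5`.  The basic facts about dihedral pairs and about
triples `(a, d, x)` with `a, d` commuting and `x` commuting with neither.
-/

set_option autoImplicit false
set_option linter.unusedSectionVars false

namespace Cfsg.Agent.PrimeTransp

open Subgroup

universe u

section Generic

variable {G : Type*} [Group G]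

theorem refl_pow {x u : G} (hx : x * x = 1) (hu : x * u * x = u⁻¹) (k : ℕ) :
    x * u ^ k = (u ^ k)⁻¹ * x := by
  have h1 : SemiconjBy x u u⁻¹ := by
    show x * u = u⁻¹ * x
    rw [← hu, mul_assoc _ x x, hx, mul_one]
  have h2 := (h1.pow_right k).eq
  rwa [inv_pow] at h2

theorem refl_inv {x a : G} (hx : x * x = 1) (ha : a * a = 1) :
    x * (x * a) * x = (x * a)⁻¹ := by
  rw [mul_inv_rev, inv_eq_of_mul_eq_one_left hx, inv_eq_of_mul_eq_one_left ha, ← mul_assoc, hx,
    one_mul]

/-- Two involutions whose product has odd order are conjugate by a power of the product. -/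
theorem conj_refl {x a : G} (hx : x * x = 1) (ha : a * a = 1) {k : ℕ}
    (h : (x * a) ^ (2 * k + 1) = 1) : (x * a) ^ k * x * ((x * a) ^ k)⁻¹ = a := by
  have h1 := refl_pow hx (refl_inv hx ha) k
  have h2 : x * ((x * a) ^ k)⁻¹ = (x * a) ^ k * x := by
    calc x * ((x * a) ^ k)⁻¹ = x * ((x * a) ^ k)⁻¹ * (x * x) := by rw [hx, mul_one]
      _ = x * (((x * a) ^ k)⁻¹ * x) * x := by simp only [mul_assoc]
      _ = x * (x * (x * a) ^ k) * x := by rw [← h1]
      _ = _ := by rw [← mul_assoc x x, hx, one_mul]
  rw [mul_assoc, h2, ← mul_assoc, ← pow_add]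
  have h3 : (x * a) ^ (k + k) * (x * a) = 1 := by
    rw [← pow_succ, show k + k + 1 = 2 * k + 1 by ring, h]
  rw [eq_inv_of_mul_eq_one_left h3, mul_inv_rev, inv_eq_of_mul_eq_one_left hx,
    inv_eq_of_mul_eq_one_left ha, mul_assoc, hx, mul_one]

theorem commute_of_sq {a b : G} (ha : a * a = 1) (hb : b * b = 1) (h : (a * b) ^ 2 = 1) :
    Commute a b := by
  rw [pow_two] at h
  have h1 := eq_inv_of_mul_eq_one_left h
  rw [mul_inv_rev, inv_eq_of_mul_eq_one_left hb, inv_eq_of_mul_eq_one_left ha] at h1
  exact h1

theorem sq_of_commute {a b : G} (ha : a * a = 1) (hb : b * b = 1) (h : Commute a b) :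
    (a * b) ^ 2 = 1 := by
  rw [h.mul_pow, pow_two, pow_two, ha, hb, one_mul]

/-- In a solvable group generated by three conjugate involutions the product of the first two is
not conjugate to them. -/
theorem eq_one_of_sign (hK : Group.IsSolvable G) {a d x : G}
    (hgen : closure ({a, d, x} : Set G) = ⊤) (ha : IsConj a x) (hd : IsConj d x)
    (hz : IsConj (a * d) x) : x = 1 := by
  haveI := hK
  have e : ∀ {u v : G}, IsConj u v → Abelianization.of u = Abelianization.of v := fun {u v} h =>
    isConj_iff_eq.1 (Abelianization.of.map_isConj h)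
  have hx : Abelianization.of x = 1 := by
    have h1 := e hz
    rw [map_mul, e ha, e hd] at h1
    exact mul_eq_left.1 h1
  have hmem : ∀ u : G, Abelianization.of u = 1 → u ∈ commutator G := fun u h => by
    rwa [← Abelianization.ker_of, MonoidHom.mem_ker]
  by_contra hne
  haveI : Nontrivial G := ⟨⟨x, 1, hne⟩⟩
  refine (Group.IsSolvable.commutator_lt_top_of_nontrivial G).ne (top_le_iff.1 ?_)
  rw [← hgen, closure_le]
  intro u hu
  rcases hu with rfl | rfl | rfl
  · exact hmem _ ((e ha).trans hx)
  · exact hmem _ ((e hd).trans hx)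
  · exact hmem _ hx

end Generic

/-- A normal set of involutions in which non-commuting products have order `p ≥ 5`. -/
structure Transp {G : Type u} [Group G] (p : ℕ) (D : Set G) : Prop where
  prime : p.Prime
  five : 5 ≤ p
  inv : ∀ d ∈ D, orderOf d = 2
  conj : ∀ d ∈ D, ∀ g : G, g * d * g⁻¹ ∈ D
  prod : ∀ a ∈ D, ∀ b ∈ D, Commute a b ∨ orderOf (a * b) = p

/-- `a, d` commute and `x` commutes with neither. -/
structure IsTriple {G : Type u} [Group G] (D : Set G) (a d x : G) : Prop where
  ma : a ∈ D
  md : d ∈ D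
  mx : x ∈ D
  comm : Commute a d
  ne : a ≠ d
  xa : ¬ Commute x a
  xd : ¬ Commute x d

namespace Transp

variable {G : Type u} [Group G] {p : ℕ} {D : Set G}
variable (h : Transp p D)
include h

theorem sq {d : G} (hd : d ∈ D) : d * d = 1 := by
  rw [← pow_two, ← h.inv d hd, pow_orderOf_eq_one]

theorem inv_eq {d : G} (hd : d ∈ D) : d⁻¹ = d := inv_eq_of_mul_eq_one_left (h.sq hd)

theorem ne_one {d : G} (hd : d ∈ D) : d ≠ 1 := by
  intro e
  have := h.inv d hd
  simp [e] at this

theorem conj' {g d : G} (hg : g * g = 1) (hd : d ∈ D) : g * d * g ∈ D := by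
  have := h.conj d hd g
  rwa [inv_eq_of_mul_eq_one_left hg] at this

theorem odd : Odd p := h.prime.odd_of_ne_two (by have := h.five; omega)

theorem exists_half : ∃ k, p = 2 * k + 1 := h.odd

theorem pp {a b : G} (ha : a ∈ D) (hb : b ∈ D) (hn : ¬ Commute a b) : (a * b) ^ p = 1 := by
  rw [← (h.prod a ha b hb).resolve_left hn, pow_orderOf_eq_one]

theorem eq_one_of_pow {g : G} (hp : g ^ p = 1) {k : ℕ} (hk : g ^ k = 1) (hk0 : 0 < k)
    (hkp : k < p) : g = 1 := by
  have hco : Nat.Coprime p k :=
    (Nat.Prime.coprime_iff_not_dvd h.prime).2 (Nat.not_dvd_of_pos_of_lt hk0 hkp)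
  have := pow_gcd_eq_one.2 ⟨hp, hk⟩
  rwa [show Nat.gcd p k = 1 from hco, pow_one] at this

/-- Products of non-commuting members have no small period. -/
theorem commute_of_pow {a b : G} (ha : a ∈ D) (hb : b ∈ D) {k : ℕ} (hk : (a * b) ^ k = 1)
    (hk0 : 0 < k) (hkp : k < p) : Commute a b := by
  by_contra hn
  have h1 := h.eq_one_of_pow (h.pp ha hb hn) hk hk0 hkp
  exact hn (commute_of_sq (h.sq ha) (h.sq hb) (by rw [h1, one_pow]))

/-- An element of odd period commuting after squaring commutes. -/
theorem commute_of_sq_commute {t y : G} (ht : t ^ p = 1) (hc : Commute (t ^ 2) y) : Commute t y := by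
  obtain ⟨k, hk⟩ := h.exists_half
  have : t = (t ^ 2) ^ (k + 1) := by
    rw [← pow_mul, show 2 * (k + 1) = p + 1 by omega, pow_succ, ht, one_mul]
  rw [this]
  exact hc.pow_left _

theorem exists_conj {a x : G} (ha : a ∈ D) (hx : x ∈ D) (hn : ¬ Commute x a) :
    ∃ k : ℕ, (x * a) ^ k * x * ((x * a) ^ k)⁻¹ = a := by
  obtain ⟨k, hk⟩ := h.exists_half
  exact ⟨k, conj_refl (h.sq hx) (h.sq ha) (hk ▸ h.pp hx ha hn)⟩

/-- Only the common commuting members commute with the product of a commuting pair. -/
theorem commute_left_of_commute_mul {a d x : G} (ha : a ∈ D) (hd : d ∈ D) (hx : x ∈ D)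
    (hne : a ≠ d) (hc : Commute x (a * d)) (had : Commute a d) : Commute x a := by
  by_contra hn
  have e : (x * a) ^ 2 = (x * d) ^ 2 := by
    have h1 : a * x * a = d * x * d := by
      have h2 : a * d * x * (a * d) = x := by
        rw [← hc.eq, mul_assoc, ← pow_two, sq_of_commute (h.sq ha) (h.sq hd) had, mul_one]
      calc a * x * a = a * (a * d * x * (a * d)) * a := by rw [h2]
        _ = a * a * d * x * ((a * d) * a) := by simp only [mul_assoc]
        _ = a * a * d * x * ((d * a) * a) := by rw [had.eq]
        _ = _ := by rw [h.sq ha, one_mul, mul_assoc d a a, h.sq ha, mul_one]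
    calc (x * a) ^ 2 = x * (a * x * a) := by simp only [pow_two, mul_assoc]
      _ = x * (d * x * d) := by rw [h1]
      _ = _ := by simp only [pow_two, mul_assoc]
  have hp : (x * d) ^ p = 1 := by
    by_cases hxd : Commute x d
    · exact absurd (commute_of_sq (h.sq hx) (h.sq ha)
        (e.trans (sq_of_commute (h.sq hx) (h.sq hd) hxd))) hn
    · exact h.pp hx hd hxd
  obtain ⟨k, hk⟩ := h.exists_half
  have h3 : ∀ g : G, g ^ p = 1 → g = (g ^ 2) ^ (k + 1) := fun g hg => by
    rw [← pow_mul, show 2 * (k + 1) = p + 1 by omega, pow_succ, hg, one_mul]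
  refine hne (mul_left_cancel (a := x) ?_)
  rw [h3 _ (h.pp hx ha hn), h3 _ hp, e]

theorem commute_both_of_commute_mul {a d x : G} (ha : a ∈ D) (hd : d ∈ D) (hx : x ∈ D)
    (hne : a ≠ d) (hc : Commute x (a * d)) (had : Commute a d) :
    Commute x a ∧ Commute x d :=
  ⟨h.commute_left_of_commute_mul ha hd hx hne hc had,
    h.commute_left_of_commute_mul hd ha hx (Ne.symm hne) (had.eq ▸ hc) had.symm⟩

/-- A member commuting with the product of a non-commuting pair commutes with both. -/
theorem commute_of_commute_line {a b d : G} (ha : a ∈ D) (hb : b ∈ D) (hd : d ∈ D)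
    (hn : ¬ Commute a b) (hc : Commute d (a * b)) : Commute d a ∧ Commute d b := by
  have key : Commute d a := by
    by_contra hda
    set t := d * a with ht
    have htp : t ^ p = 1 := h.pp hd ha hda
    have hy : t * (a * b) = (a * b)⁻¹ * t := by
      have h1 : a * (a * b) = (a * b)⁻¹ * a := by
        have h5 := refl_pow (h.sq ha) (refl_inv (h.sq ha) (h.sq hb)) 1
        rwa [pow_one] at h5
      calc t * (a * b) = d * (a * (a * b)) := mul_assoc _ _ _
        _ = d * (a * b)⁻¹ * a := by rw [h1, mul_assoc]
        _ = (a * b)⁻¹ * d * a := by rw [(hc.inv_right).eq]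
        _ = _ := mul_assoc _ _ _
    have h2 : Commute (t ^ 2) (a * b) := by
      have hy' : t * (a * b)⁻¹ = a * b * t := by
        have h6 : SemiconjBy t (a * b) (a * b)⁻¹ := hy
        have h7 := h6.inv_right.eq
        rwa [inv_inv] at h7
      show t ^ 2 * (a * b) = a * b * t ^ 2
      rw [pow_two, mul_assoc, hy, ← mul_assoc, hy', mul_assoc]
    have h3 := h.commute_of_sq_commute htp h2
    have h4 : (a * b)⁻¹ = a * b := mul_right_cancel (hy.symm.trans h3.eq)
    exact hn (commute_of_sq (h.sq ha) (h.sq hb) (by rw [pow_two]; nth_rw 1 [← h4]; exact inv_mul_cancel _))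
  refine ⟨key, ?_⟩
  have : b = a * (a * b) := by rw [← mul_assoc, h.sq ha, one_mul]
  rw [this]
  exact key.mul_right hc

/-- A triple generates a non-solvable group when `(a d x)^p` is central in it. -/
theorem triple_not_solvable {a d x : G} (T : IsTriple D a d x)
    (hia : Commute ((a * d * x) ^ p) a) (hid : Commute ((a * d * x) ^ p) d)
    (hix : Commute ((a * d * x) ^ p) x) :
    ¬ Group.IsSolvable ↥(closure ({a, d, x} : Set G)) := by
  intro hsol
  set H := closure ({a, d, x} : Set G) with hH
  let a' : H := ⟨a, subset_closure (by simp)⟩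
  let d' : H := ⟨d, subset_closure (by simp)⟩
  let x' : H := ⟨x, subset_closure (by simp)⟩
  have hgen : closure ({a', d', x'} : Set H) = ⊤ := by
    refine map_injective H.subtype_injective ?_
    rw [MonoidHom.map_closure, ← MonoidHom.range_eq_map, range_subtype]
    simp [Set.image_insert_eq, a', d', x', hH]
  have hcomm : ∀ u : G, Commute u a → Commute u d → Commute u x → ∀ v ∈ H, Commute u v := by
    intro u ua ud ux v hv
    induction hv using closure_induction with
    | mem w hw =>
      simp only [Set.mem_insert_iff, Set.mem_singleton_iff] at hw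
      rcases hw with rfl | rfl | rfl <;> assumption
    | one => exact Commute.one_right _
    | mul _ _ _ _ h1 h2 => exact h1.mul_right h2
    | inv _ _ h1 => exact h1.inv_right
  have hi : (a' * d' * x') ^ p ∈ center ↥H := by
    rw [mem_center_iff]
    intro v
    exact Subtype.ext (by simpa [a', d', x'] using (hcomm _ hia hid hix v v.2).eq.symm)
  set f := QuotientGroup.mk' (center ↥H)
  obtain ⟨k, hk⟩ := h.exists_half
  have conjx : ∀ {b : H}, (b : G) ∈ D → ¬ Commute x (b : G) → IsConj b x' := by
    intro b hb hn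
    refine (isConj_iff.2 ⟨(x' * b) ^ k, conj_refl (Subtype.ext (h.sq T.mx))
      (Subtype.ext (h.sq hb)) ?_⟩).symm
    rw [← hk]
    exact Subtype.ext (by simpa [x'] using h.pp T.mx hb hn)
  have hz2 : (a' * d') * (a' * d') = 1 :=
    Subtype.ext (by simpa [a', d', ← pow_two] using sq_of_commute (h.sq T.ma) (h.sq T.md) T.comm)
  have hz : IsConj (f (a' * d')) (f x') := by
    refine isConj_iff.2 ⟨(f (a' * d') * f x') ^ k, conj_refl ?_ ?_ ?_⟩
    · rw [← map_mul, hz2, map_one]
    · rw [← map_mul, show x' * x' = 1 from Subtype.ext (h.sq T.mx), map_one]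
    · rw [← hk, ← map_mul, ← map_pow]
      exact (QuotientGroup.eq_one_iff _).2 hi
  haveI := hsol
  have h1 : f x' = 1 := by
    refine eq_one_of_sign (a := f a') (d := f d')
      (Group.isSolvable_of_surjective (QuotientGroup.mk'_surjective (center ↥H))) ?_
      (f.map_isConj (conjx T.ma T.xa)) (f.map_isConj (conjx T.md T.xd)) (by rwa [← map_mul])
    have h2 := congrArg (Subgroup.map f) hgen
    rw [MonoidHom.map_closure, map_top_of_surjective f (QuotientGroup.mk'_surjective _)] at h2
    simpa [Set.image_insert_eq] using h2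
  have h2 : x' ∈ center ↥H := (QuotientGroup.eq_one_iff _).1 h1
  exact T.xa (congrArg Subtype.val (mem_center_iff.1 h2 a')).symm

end Transp

end Cfsg.Agent.PrimeTransp
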