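import Mathlib
import Cfsg.Prelude.Def_Solvable
import Cfsg.Agent.Lib.Cores.Basic
import Cfsg.Agent.Lib.PrimeTransp.Basic

/-!
# A minimal non-solvable `p`-transposition group

Commuting is transitive on `D`, and products of distinct commuting members lie in `D`.
-/

set_option autoImplicit false
set_option linter.unusedSectionVars false
set_option linter.style.haveILetI false

namespace Cfsg.Agent.PrimeTransp

open Subgroup

universe u

/-- The hypotheses on a minimal counterexample. -/
structure Minimal {G : Type u} [Group G] (p : ℕ) (D : Set G) : Prop where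
  base : Transp p D
  gen : closure D = ⊤
  sub : ∀ S : Set G, S ⊆ D → closure S ≠ ⊤ → Group.IsSolvable ↥(closure S)
  rad : ∀ N : Subgroup G, N.Normal → Group.IsSolvable ↥N → N = ⊥
  nonempty : D.Nonempty

namespace Minimal

variable {G : Type u} [Group G] [Finite G] {p : ℕ} {D : Set G}
variable (M : Minimal p D)
include M

theorem center_eq_bot : center G = ⊥ :=
  M.rad _ inferInstance (Group.isSolvable_of_comm fun a b => Subtype.ext (mem_center_iff.1 b.2 a))

theorem eq_one_of_commute {u : G} {S : Set G} (hS : closure S = ⊤) (hu : ∀ s ∈ S, Commute u s) :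
    u = 1 := by
  have : u ∈ center G := by
    rw [mem_center_iff]
    intro v
    have hv : v ∈ closure S := hS ▸ mem_top v
    induction hv using closure_induction with
    | mem w hw => exact (hu w hw).eq.symm
    | one => simp
    | mul _ _ _ _ h1 h2 => exact (Commute.mul_left h1 h2).eq
    | inv _ _ h1 => exact (Commute.inv_left h1).eq
  rwa [M.center_eq_bot, mem_bot] at this

/-- Any commuting pair is the base of a triple. -/
theorem exists_triple {a d : G} (ha : a ∈ D) (hd : d ∈ D) (hc : Commute a d) (hne : a ≠ d) :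
    ∃ x, IsTriple D a d x := by
  set C : Set G :=
    {y | y ∈ D ∧ (y = a ∨ ¬ Commute a y ∨ ∃ x ∈ D, ¬ Commute a x ∧ ¬ Commute x y)} with hC
  have hCD : C ⊆ D := fun y hy => hy.1
  have step : ∀ y ∈ C, ∀ w ∈ D, ¬ Commute y w → w ∈ C := by
    rintro y ⟨hy, rfl | hay | ⟨x, hx, hax, hxy⟩⟩ w hw hyw
    · exact ⟨hw, Or.inr (Or.inl hyw)⟩
    · exact ⟨hw, Or.inr (Or.inr ⟨y, hy, hay, hyw⟩)⟩
    · by_cases haw : Commute a w
      · by_cases hay : Commute a y
        · by_cases hxw : Commute x w
          · refine ⟨hw, Or.inr (Or.inr ⟨y * x * y, M.base.conj' (M.base.sq hy) hx, ?_, ?_⟩)⟩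
            · intro h1
              have h2 := (hay.mul_right h1).mul_right hay
              rw [show y * (y * x * y) * y = x by
                simp only [← mul_assoc, M.base.sq hy, one_mul]
                rw [mul_assoc, M.base.sq hy, mul_one]] at h2
              exact hax h2
            · intro h1
              have h2 : Commute (x * y * x * y) w := by
                rw [show x * y * x * y = x * (y * x * y) by simp only [mul_assoc]]
                exact hxw.mul_left h1
              have h3 := M.base.commute_of_sq_commute (M.base.pp hx hy hxy)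
                (show Commute ((x * y) ^ 2) w by rwa [pow_two, ← mul_assoc])
              have h4 : Commute (x * (x * y)) w := hxw.mul_left h3
              rw [← mul_assoc, M.base.sq hx, one_mul] at h4
              exact hyw h4
          · exact ⟨hw, Or.inr (Or.inr ⟨x, hx, hax, hxw⟩)⟩
        · exact ⟨hw, Or.inr (Or.inr ⟨y, hy, hay, hyw⟩)⟩
      · exact ⟨hw, Or.inr (Or.inl haw)⟩
  have hconj : ∀ c ∈ C, ∀ e ∈ D, e * c * e⁻¹ ∈ C := by
    intro c hc' e he
    rw [M.base.inv_eq he]
    by_cases hce : Commute c e
    · rwa [show e * c * e = c by rw [← hce.eq, mul_assoc, M.base.sq he, mul_one]]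
    · refine step e (step c hc' e he hce) _ (M.base.conj' (M.base.sq he) (hCD hc')) fun h1 => ?_
      have h2 := ((Commute.refl e).mul_right h1).mul_right (Commute.refl e)
      rw [show e * (e * c * e) * e = c by
        simp only [← mul_assoc, M.base.sq he, one_mul]
        rw [mul_assoc, M.base.sq he, mul_one]] at h2
      exact hce h2.symm
  have hnorm : (closure C).Normal := by
    refine normalizer_eq_top_iff.1 (top_le_iff.1 ?_)
    rw [← M.gen, closure_le]
    intro e he
    rw [SetLike.mem_coe, mem_normalizer_iff]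
    have h1 : ∀ v ∈ closure C, e * v * e⁻¹ ∈ closure C := by
      intro v hv
      induction hv using closure_induction with
      | mem w hw => exact subset_closure (hconj w hw e he)
      | one => simp
      | mul u v _ _ hu hv => rw [show e * (u * v) * e⁻¹ = e * u * e⁻¹ * (e * v * e⁻¹) by group]
                             exact mul_mem hu hv
      | inv u _ hu => rw [show e * u⁻¹ * e⁻¹ = (e * u * e⁻¹)⁻¹ by group]; exact inv_mem hu
    refine fun v => ⟨h1 v, fun hv => ?_⟩
    have h2 := h1 _ hv
    rw [M.base.inv_eq he] at h2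
    simpa [← mul_assoc, M.base.sq he, mul_assoc _ e e] using h2
  have haC : a ∈ C := ⟨ha, Or.inl rfl⟩
  have hall : D ⊆ C := by
    by_contra hnot
    obtain ⟨y, hy, hyC⟩ := Set.not_subset.1 hnot
    by_cases htop : closure C = ⊤
    · refine M.base.ne_one hy (M.eq_one_of_commute htop fun c hc' => ?_)
      by_contra hyc
      exact hyC (step c hc' y hy fun h => hyc h.symm)
    · have := M.rad _ hnorm (M.sub C hCD htop)
      exact M.base.ne_one ha ((mem_bot).1 (this ▸ subset_closure haC))
  rcases (hall hd).2 with e | e | ⟨x, hx, hax, hxd⟩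
  · exact absurd e.symm hne
  · exact absurd hc e
  · exact ⟨x, ha, hd, hx, hc, hne, fun h => hax h.symm, hxd⟩

/-- Either `(a d x)^4 = 1`, or `a d ∈ D` and the triple generates the group. -/
theorem dichotomy {a d x : G} (T : IsTriple D a d x) :
    (a * d * x) ^ 4 = 1 ∨
      (a * d ∈ D ∧ (a * d * x) ^ p = 1 ∧ closure ({a, d, x} : Set G) = ⊤) := by
  obtain ⟨z, hz⟩ : ∃ z, z = a * d := ⟨_, rfl⟩
  have hzz : z * z = 1 := by
    rw [hz, ← pow_two]; exact sq_of_commute (M.base.sq T.ma) (M.base.sq T.md) T.comm
  have hxx : x * x = 1 := M.base.sq T.mx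
  rw [← hz]
  have hsq : z * x * z * x = (z * x) ^ 2 := by rw [pow_two, ← mul_assoc]
  rcases M.base.prod _ (M.base.conj' hzz T.mx) _ T.mx with hcm | hp
  · left
    have h1 := sq_of_commute (M.base.sq (M.base.conj' hzz T.mx)) hxx hcm
    rwa [hsq, ← pow_mul] at h1
  right
  have h2p : (z * x) ^ (2 * p) = 1 := by
    rw [pow_mul, ← hsq, ← hp, pow_orderOf_eq_one]
  set i := (z * x) ^ p with hi
  have hii : i⁻¹ = i := inv_eq_of_mul_eq_one_left (by rw [hi, ← pow_add, ← two_mul, h2p])
  have hxu : x * (z * x) * x = (z * x)⁻¹ := by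
    rw [mul_inv_rev, inv_eq_of_mul_eq_one_left hzz, inv_eq_of_mul_eq_one_left hxx, mul_assoc,
      mul_assoc, hxx, mul_one]
  have hix : Commute i x := by
    have := refl_pow hxx hxu p
    rw [← hi, hii] at this
    exact this.symm
  have hiz : Commute i z := by
    have := refl_pow hzz (refl_inv hzz hxx) p
    rw [← hi, hii] at this
    exact this.symm
  obtain ⟨k, hk⟩ := M.base.exists_half
  have hzi : z * i = ((z * x) ^ k)⁻¹ * x * (z * x) ^ k := by
    have h1 : (z * x) ^ p = z * x * ((z * x) ^ k * (z * x) ^ k) := by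
      rw [← pow_add, ← pow_succ', hk]; congr 1; ring
    calc z * i = z * z * x * ((z * x) ^ k * (z * x) ^ k) := by
          rw [hi, h1]; simp only [mul_assoc]
      _ = x * (z * x) ^ k * (z * x) ^ k := by rw [hzz, one_mul, mul_assoc]
      _ = _ := by rw [refl_pow hxx hxu k]
  have heD : z * i ∈ D := by
    rw [hzi]
    simpa using M.base.conj x T.mx ((z * x) ^ k)⁻¹
  have hez : Commute (z * i) z := (Commute.refl z).mul_left hiz
  obtain ⟨hea, hed⟩ := M.base.commute_both_of_commute_mul T.ma T.md heD T.ne
    (by rw [← hz]; exact hez) T.comm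
  have hi2 : i = z * (z * i) := by rw [← mul_assoc, hzz, one_mul]
  have hia : Commute i a := by
    rw [hi2]
    exact (hz ▸ (Commute.refl a).mul_left T.comm.symm : Commute z a).mul_left hea
  have hid : Commute i d := by
    rw [hi2]
    exact (hz ▸ T.comm.mul_left (Commute.refl d) : Commute z d).mul_left hed
  have htop : closure ({a, d, x} : Set G) = ⊤ := by
    by_contra hne
    refine M.base.triple_not_solvable T ?_ ?_ ?_ (M.sub _ ?_ hne)
    · rwa [← hz]
    · rwa [← hz]
    · rwa [← hz]
    intro v hv
    simp only [Set.mem_insert_iff, Set.mem_singleton_iff] at hv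
    rcases hv with rfl | rfl | rfl
    exacts [T.ma, T.md, T.mx]
  have hi1 : i = 1 := by
    refine M.eq_one_of_commute htop fun s hs => ?_
    simp only [Set.mem_insert_iff, Set.mem_singleton_iff] at hs
    rcases hs with rfl | rfl | rfl <;> assumption
  exact ⟨by rwa [hi1, mul_one] at heD, hi1, htop⟩

/-- Commuting is transitive on `D`. -/
theorem trans {y a d : G} (hy : y ∈ D) (ha : a ∈ D) (hd : d ∈ D) (hya : Commute y a)
    (had : Commute a d) : Commute y d := by
  by_contra hyd
  have hne : a ≠ d := fun e => hyd (e ▸ hya)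
  have hyne : y ≠ a := fun e => hyd (e ▸ had)
  obtain ⟨x, T⟩ := M.exists_triple ha hd had hne
  obtain ⟨z, hz⟩ : ∃ z, z = a * d := ⟨_, rfl⟩
  have hzz : z * z = 1 := by
    rw [hz, ← pow_two]; exact sq_of_commute (M.base.sq T.ma) (M.base.sq T.md) T.comm
  have hxx := M.base.sq T.mx
  have hp5 := M.base.five
  have hdich := M.dichotomy T
  rw [← hz] at hdich
  rcases hdich with h4 | ⟨hzD, -, -⟩
  swap
  · by_cases hzy : Commute z y
    · exact hyd (M.base.commute_both_of_commute_mul ha hd hy hne (hz ▸ hzy.symm) had).2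
    · have h1 := M.base.pp hzD hy hzy
      have hady : Commute a (d * y) := had.mul_right hya.symm
      rw [hz, mul_assoc, hady.mul_pow, M.base.pp hd hy fun h => hyd h.symm, mul_one] at h1
      obtain ⟨k, hk⟩ := M.base.exists_half
      rw [hk, pow_succ, pow_mul, pow_two, M.base.sq ha, one_pow, one_mul] at h1
      exact M.base.ne_one ha h1
  obtain ⟨z', hz'⟩ : ∃ z', z' = x * z * x := ⟨_, rfl⟩
  have hz'z' : z' * z' = 1 := by
    rw [hz', show x * z * x * (x * z * x) = x * z * (x * x) * z * x by simp only [mul_assoc], hxx,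
      mul_one, mul_assoc x z z, hzz, mul_one, hxx]
  have hcz : Commute z z' := by
    have h1 : ((z * x) ^ 2) ^ 2 = 1 := by rw [← pow_mul]; exact h4
    rw [pow_two ((z * x) ^ 2)] at h1
    have h2 := eq_inv_of_mul_eq_one_left h1
    rw [pow_two, mul_inv_rev, mul_inv_rev, inv_eq_of_mul_eq_one_left hzz,
      inv_eq_of_mul_eq_one_left hxx] at h2
    simpa [Commute, SemiconjBy, hz', mul_assoc] using h2
  have hza : Commute z a := hz ▸ (Commute.refl a).mul_left had.symm
  have hzd : Commute z d := hz ▸ had.mul_left (Commute.refl d)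
  obtain ⟨a1, ha1⟩ : ∃ a1, a1 = z' * a * z' := ⟨_, rfl⟩
  obtain ⟨d1, hd1⟩ : ∃ d1, d1 = z' * d * z' := ⟨_, rfl⟩
  have ha1D : a1 ∈ D := ha1 ▸ M.base.conj' hz'z' ha
  have hd1D : d1 ∈ D := hd1 ▸ M.base.conj' hz'z' hd
  have ha1z : Commute a1 z := ha1 ▸ ((hcz.symm.mul_left hza.symm).mul_left hcz.symm)
  obtain ⟨ha1a, ha1d⟩ := M.base.commute_both_of_commute_mul ha hd ha1D hne (hz ▸ ha1z) had
  have ha1d1 : a1 * d1 = z := by
    rw [ha1, hd1, show z' * a * z' * (z' * d * z') = z' * a * (z' * z') * d * z' by
      simp only [mul_assoc], hz'z', mul_one, mul_assoc z' a d, ← hz, ← hcz.eq, mul_assoc, hz'z',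
      mul_one]
  have hd1eq : d1 = a1 * a * d := by
    calc d1 = a1 * (a1 * d1) := by rw [← mul_assoc, M.base.sq ha1D, one_mul]
      _ = _ := by rw [ha1d1, hz, mul_assoc]
  have hne1 : a1 ≠ a := by
    intro e
    have hc1 : Commute a z' := by
      show a * z' = z' * a
      calc a * z' = z' * a * z' * z' := by rw [← ha1, e]
        _ = z' * a := by rw [mul_assoc, hz'z', mul_one]
    have hax : x * a * x ∈ D := M.base.conj' hxx ha
    have hdx : x * d * x ∈ D := M.base.conj' hxx hd
    have hprod : x * a * x * (x * d * x) = z' := by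
      rw [show x * a * x * (x * d * x) = x * a * (x * x) * d * x by simp only [mul_assoc], hxx,
        mul_one, mul_assoc x a d, ← hz, hz']
    have hcomm' : Commute (x * a * x) (x * d * x) := by
      apply commute_of_sq (M.base.sq hax) (M.base.sq hdx)
      rw [hprod, pow_two, hz'z']
    have hne' : x * a * x ≠ x * d * x := fun e' => hne (mul_left_cancel (mul_right_cancel e'))
    have hc2 := M.base.commute_left_of_commute_mul hax hdx ha hne' (hprod ▸ hc1) hcomm'
    refine T.xa (M.base.commute_of_pow T.mx ha (k := 4) ?_ (by omega) (by omega))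
    have h3 := sq_of_commute (M.base.sq hax) (M.base.sq ha) hc2.symm
    rw [show x * a * x * a = (x * a) ^ 2 by rw [pow_two, ← mul_assoc], ← pow_mul] at h3
    exact h3
  have hne2 : a1 ≠ d := by
    intro e
    have hza' : z' * a * z' * a = z := by rw [← ha1, e, ← had.eq, hz]
    have c3 : SemiconjBy (x * a) (z' * z) z ∧ SemiconjBy (x * a) z z' ∧
        SemiconjBy (x * a) z' (z' * z) := by
      have hax : (x * a)⁻¹ = a * x := by
        rw [mul_inv_rev, M.base.inv_eq ha, M.base.inv_eq T.mx]
      have key : a * z' * a = z' * z := by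
        calc a * z' * a = z' * (z' * a * z' * a) := by
              simp only [← mul_assoc, hz'z', one_mul]
          _ = _ := by rw [hza']
      have f : ∀ u v : G, x * (a * u * a) * x = v → SemiconjBy (x * a) u v := fun u v hv => by
        show x * a * u = v * (x * a)
        rw [← hv]
        simp only [mul_assoc]
        rw [← mul_assoc x x a, hxx, one_mul, M.base.sq ha, mul_one]
      have hzaz : a * z * a = z := by rw [← hza.eq, mul_assoc, M.base.sq ha, mul_one]
      have hxz' : x * z' * x = z := by
        rw [hz', show x * (x * z * x) * x = x * x * z * (x * x) by simp only [mul_assoc], hxx,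
          one_mul, mul_one]
      refine ⟨f _ _ ?_, f _ _ (by rw [hzaz, hz']), f _ _ ?_⟩
      · rw [show a * (z' * z) * a = a * z' * a * (a * z * a) by
          rw [show a * z' * a * (a * z * a) = a * z' * (a * a) * z * a by simp only [mul_assoc],
            M.base.sq ha, mul_one]; simp only [mul_assoc], key, hzaz, mul_assoc z' z z, hzz, mul_one,
          hxz']
      · rw [key, show x * (z' * z) * x = x * z' * x * (x * z * x) by
          rw [show x * z' * x * (x * z * x) = x * z' * (x * x) * z * x by simp only [mul_assoc],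
            hxx, mul_one]; simp only [mul_assoc], hxz', ← hz', hcz.eq]
    have h3 : SemiconjBy ((x * a) * ((x * a) * (x * a))) z z :=
      c3.1.mul_left (c3.2.2.mul_left c3.2.1)
    have h3' : Commute ((x * a) ^ 3) z := by rw [pow_succ', pow_two]; exact h3
    have hc : Commute (x * a) z := by
      obtain ⟨m, -, hm⟩ := Nat.exists_mul_mod_eq_one_of_coprime
        (show Nat.Coprime 3 p from ((Nat.coprime_primes Nat.prime_three M.base.prime).2 (by omega)))
        (by omega)
      have := h3'.pow_left m
      rwa [← pow_mul, pow_eq_pow_mod _ (M.base.pp T.mx ha T.xa), hm, pow_one] at this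
    have hz'eq : z' = z := by
      have h5 := c3.2.1.eq
      rw [hc.eq] at h5
      exact (mul_right_cancel h5).symm
    have hxz : Commute x z := by
      show x * z = z * x
      calc x * z = z' * x := by rw [hz', mul_assoc, hxx, mul_one]
        _ = z * x := by rw [hz'eq]
    exact T.xa (M.base.commute_left_of_commute_mul ha hd T.mx hne (hz ▸ hxz) had)
  have hyd' : ¬ Commute d y := fun h => hyd h.symm
  by_cases hya1 : Commute a1 y
  · have e1 : d1 * y = a1 * a * (d * y) := by rw [hd1eq, mul_assoc]
    have hcc : Commute (a1 * a) (d * y) :=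
      (ha1d.mul_right hya1).mul_left (had.mul_right hya.symm)
    have h2 : (a1 * a) ^ 2 = 1 := sq_of_commute (M.base.sq ha1D) (M.base.sq ha) ha1a
    rcases M.base.prod d1 hd1D y hy with hc | hc
    · have := sq_of_commute (M.base.sq hd1D) (M.base.sq hy) hc
      rw [e1, hcc.mul_pow, h2, one_mul] at this
      exact hyd' (commute_of_sq (M.base.sq hd) (M.base.sq hy) this)
    · have := pow_orderOf_eq_one (d1 * y)
      rw [hc, e1, hcc.mul_pow, M.base.pp hd hy hyd', mul_one] at this
      obtain ⟨k, hk⟩ := M.base.exists_half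
      rw [hk, pow_succ, pow_mul, h2, one_pow, one_mul] at this
      exact hne1 (by rw [eq_inv_of_mul_eq_one_left this, M.base.inv_eq ha])
  · have e1 : d1 * y = a * (d * a1 * y) := by
      rw [hd1eq, ha1a.eq, mul_assoc a a1 d, ha1d.eq]; simp only [mul_assoc]
    have hcc : Commute a (d * a1 * y) := (had.mul_right ha1a.symm).mul_right hya.symm
    have T3 : IsTriple D d a1 y :=
      ⟨hd, ha1D, hy, ha1d.symm, Ne.symm hne2, hyd, fun h => hya1 h.symm⟩
    rcases M.dichotomy T3 with hd4 | ⟨-, hdp, -⟩
    · have h4' : (d1 * y) ^ 4 = 1 := by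
        rw [e1, hcc.mul_pow, hd4, mul_one, show (4 : ℕ) = 2 * 2 by rfl, pow_mul, pow_two a,
          M.base.sq ha, one_pow]
      have hc := M.base.commute_of_pow hd1D hy h4' (by omega) (by omega)
      have h5 := sq_of_commute (M.base.sq hd1D) (M.base.sq hy) hc
      rw [e1, hcc.mul_pow, pow_two a, M.base.sq ha, one_mul] at h5
      have h6 : Commute (d * a1) y := commute_of_sq (by
        rw [← pow_two]; exact sq_of_commute (M.base.sq hd) (M.base.sq ha1D) ha1d.symm)
        (M.base.sq hy) h5
      exact hyd (M.base.commute_left_of_commute_mul hd ha1D hy (Ne.symm hne2) h6.symm ha1d.symm)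
    · by_cases hc : Commute d1 y
      · have h5 := sq_of_commute (M.base.sq hd1D) (M.base.sq hy) hc
        rw [e1, hcc.mul_pow, pow_two a, M.base.sq ha, one_mul] at h5
        have h6 : d * a1 * y = 1 := M.base.eq_one_of_pow hdp h5 (by omega) (by omega)
        refine hyd ?_
        rw [show y = d * a1 by
          rw [← inv_eq_of_mul_eq_one_left (M.base.sq hy)]
          exact (eq_inv_of_mul_eq_one_left h6).symm]
        exact (Commute.refl d).mul_left ha1d
      · have := M.base.pp hd1D hy hc
        rw [e1, hcc.mul_pow, hdp, mul_one] at this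
        obtain ⟨k, hk⟩ := M.base.exists_half
        rw [hk, pow_succ, pow_mul, pow_two a, M.base.sq ha, one_pow, one_mul] at this
        exact M.base.ne_one ha this

end Minimal

end Cfsg.Agent.PrimeTransp
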