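import Mathlib
import Cfsg.Agent.Lib.PrimeTransp.Minimal
import Cfsg.Agent.Lib.ZStar.OddProduct

/-!
# The blocks of a minimal non-solvable `p`-transposition group

Products of distinct commuting members lie in `D`; the classes of the commuting relation are the
blocks on which the group acts.
-/

set_option autoImplicit false
set_option linter.unusedSectionVars false
set_option linter.style.haveILetI false

namespace Cfsg.Agent.PrimeTransp

open Subgroup

universe u

namespace Minimal

variable {G : Type u} [Group G] [Finite G] {p : ℕ} {D : Set G}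
variable (M : Minimal p D)
include M

/-- The elements fixing every block. -/
def kernel : Subgroup G where
  carrier := {g | ∀ y ∈ D, Commute (g * y * g⁻¹) y}
  one_mem' := fun y _ => by simp
  mul_mem' {g h} hg hh := fun y hy => by
    refine M.trans (M.base.conj y hy _) (M.base.conj y hy g) hy ?_ (hg y hy)
    have := ((hh y hy).map (MulAut.conj g).toMonoidHom)
    simpa [mul_assoc] using this
  inv_mem' {g} hg := fun y hy => by
    have := ((hg _ (M.base.conj y hy g⁻¹)).symm.map (MulAut.conj g⁻¹).toMonoidHom)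
    have h2 := hg y hy
    have h1 := hg _ (M.base.conj y hy g⁻¹)
    rw [show g * (g⁻¹ * y * g⁻¹⁻¹) * g⁻¹ = y by group] at h1
    exact h1.symm

theorem mem_kernel {g : G} : g ∈ M.kernel ↔ ∀ y ∈ D, Commute (g * y * g⁻¹) y := Iff.rfl

theorem kernel_normal : M.kernel.Normal where
  conj_mem g hg t := fun y hy => by
    have h1 := (hg _ (M.base.conj y hy t⁻¹)).map (MulAut.conj t).toMonoidHom
    simpa [mul_assoc] using h1

theorem kernel_eq_bot : M.kernel = ⊥ := by
  haveI := M.kernel_normal
  refine (eq_bot_iff_forall _).2 fun k hk => ?_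
  refine M.eq_one_of_commute M.gen fun a ha => ?_
  set K := M.kernel
  have hc : k * a * k⁻¹ * a⁻¹ ∈ K := by
    rw [show k * a * k⁻¹ * a⁻¹ = k * (a * k⁻¹ * a⁻¹) by group]
    exact mul_mem hk (M.kernel_normal.conj_mem _ (inv_mem hk) a)
  set W := closure {b | b ∈ D ∧ Commute b a} with hW
  have hcomm : ∀ u ∈ W, ∀ v ∈ W, Commute u v := by
    intro u hu v hv
    induction hv using closure_induction with
    | mem w hw =>
      induction hu using closure_induction with
      | mem u' hu' => exact M.trans hu'.1 ha hw.1 hu'.2 hw.2.symm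
      | one => exact Commute.one_left _
      | mul _ _ _ _ h1 h2 => exact h1.mul_left h2
      | inv _ _ h1 => exact h1.inv_left
    | one => exact Commute.one_right _
    | mul _ _ _ _ h1 h2 => exact h1.mul_right h2
    | inv _ _ h1 => exact h1.inv_right
  have hsq : ∀ u ∈ W, u * u = 1 := by
    intro u hu
    induction hu using closure_induction with
    | mem w hw => exact M.base.sq hw.1
    | one => exact one_mul _
    | mul u v hu' hv' h1 h2 =>
      rw [mul_assoc, ← mul_assoc v, ← (hcomm u hu' v hv').eq, mul_assoc u v v, h2, mul_one, h1]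
    | inv u _ h1 => rw [← mul_inv_rev, h1, inv_one]
  set A := (W ⊓ K).subgroupOf K with hA
  have hconjW : ∀ (g : K), ∀ u ∈ W, (g : G) * u * (g : G)⁻¹ ∈ W := by
    intro g u hu
    induction hu using closure_induction with
    | mem w hw =>
      exact subset_closure ⟨M.base.conj w hw.1 _,
        M.trans (M.base.conj w hw.1 _) hw.1 ha (g.2 w hw.1) hw.2⟩
    | one => simp
    | mul u v _ _ h1 h2 =>
      rw [show (g : G) * (u * v) * (g : G)⁻¹ = g * u * (g : G)⁻¹ * (g * v * (g : G)⁻¹) by group]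
      exact mul_mem h1 h2
    | inv u _ h1 =>
      rw [show (g : G) * u⁻¹ * (g : G)⁻¹ = (g * u * (g : G)⁻¹)⁻¹ by group]; exact inv_mem h1
  haveI hAn : A.Normal := by
    refine ⟨fun u hu g => ?_⟩
    rw [hA, mem_subgroupOf] at hu ⊢
    exact ⟨hconjW g _ hu.1, (g * u * g⁻¹).2⟩
  have hA2 : IsPGroup 2 A := by
    intro u
    refine ⟨1, Subtype.ext (Subtype.ext ?_)⟩
    have := hsq _ (mem_subgroupOf.1 u.2).1
    simpa [pow_two] using this
  have hbot : (Cfsg.pCore 2 ↥K).map K.subtype = ⊥ := by
    haveI := Cores.pCore_characteristic (G := ↥K) 2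
    haveI : Fact (Nat.Prime 2) := ⟨Nat.prime_two⟩
    refine M.rad _ (Cores.normal_map_subtype K _) ?_
    haveI := (((Cores.pCore_isPGroup (G := ↥K) 2).map K.subtype)).isNilpotent
    infer_instance
  have hcW : k * a * k⁻¹ * a⁻¹ ∈ W :=
    mul_mem (subset_closure ⟨M.base.conj a ha k, hk a ha⟩)
      (inv_mem (subset_closure ⟨ha, Commute.refl a⟩))
  have h1 : k * a * k⁻¹ * a⁻¹ ∈ (Cfsg.pCore 2 ↥K).map K.subtype :=
    ⟨⟨_, hc⟩, Cores.le_pCore hA2 (mem_subgroupOf.2 ⟨hcW, hc⟩), rfl⟩
  rw [hbot, mem_bot, mul_inv_eq_one, mul_inv_eq_iff_eq_mul] at h1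
  exact h1

/-- Products of distinct commuting members lie in `D`. -/
theorem mul_mem {a d : G} (ha : a ∈ D) (hd : d ∈ D) (hc : Commute a d) (hne : a ≠ d) :
    a * d ∈ D := by
  by_contra hz
  have hzz : a * d * (a * d) = 1 := by
    rw [← pow_two]; exact sq_of_commute (M.base.sq ha) (M.base.sq hd) hc
  have hk : a * d ∈ M.kernel := by
    intro y hy
    rw [inv_eq_of_mul_eq_one_left hzz]
    by_cases hay : Commute a y
    · have hdy := M.trans hd ha hy hc.symm hay
      have : Commute (a * d) y := hay.mul_left hdy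
      rw [this.eq, mul_assoc, hzz, mul_one]
    · have T : IsTriple D a d y :=
        ⟨ha, hd, hy, hc, hne, fun h => hay h.symm,
          fun h => hay (M.trans ha hd hy hc h.symm)⟩
      rcases M.dichotomy T with h4 | ⟨h, -, -⟩
      · refine commute_of_sq (M.base.sq (M.base.conj' hzz hy)) (M.base.sq hy) ?_
        rw [show a * d * y * (a * d) * y = (a * d * y) ^ 2 by rw [pow_two, mul_assoc (a * d * y)],
          ← pow_mul]
        exact h4
      · exact absurd h hz
  rw [M.kernel_eq_bot, mem_bot] at hk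
  exact hne (by rw [eq_inv_of_mul_eq_one_left hk, M.base.inv_eq hd])

/-- The centraliser of a triple is trivial. -/
theorem eq_one_of_triple {a d x s : G} (T : IsTriple D a d x) (sa : Commute s a)
    (sd : Commute s d) (sx : Commute s x) : s = 1 := by
  have hp5 := M.base.five
  rcases M.dichotomy T with h4 | ⟨-, -, htop⟩
  · have hz := M.mul_mem T.ma T.md T.comm T.ne
    by_cases hzx : Commute (a * d) x
    · exact absurd (M.base.commute_left_of_commute_mul T.ma T.md T.mx T.ne hzx.symm T.comm) T.xa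
    · exact absurd (M.base.commute_of_pow hz T.mx h4 (by omega) (by omega)) hzx
  · refine M.eq_one_of_commute htop fun v hv => ?_
    simp only [Set.mem_insert_iff, Set.mem_singleton_iff] at hv
    rcases hv with rfl | rfl | rfl <;> assumption

/-- Any two members are conjugate. -/
theorem isConj {a b : G} (ha : a ∈ D) (hb : b ∈ D) : ∃ g : G, g * a * g⁻¹ = b := by
  by_cases hab : Commute a b
  · by_cases e : a = b
    · exact ⟨1, by simp [e]⟩
    · obtain ⟨x, T⟩ := M.exists_triple ha hb hab e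
      obtain ⟨k, hk⟩ := M.base.exists_conj T.mx ha fun h => T.xa h.symm
      obtain ⟨l, hl⟩ := M.base.exists_conj hb T.mx T.xd
      refine ⟨(x * b) ^ l * (a * x) ^ k, ?_⟩
      rw [mul_inv_rev, show (x * b) ^ l * (a * x) ^ k * a * (((a * x) ^ k)⁻¹ * ((x * b) ^ l)⁻¹) =
        (x * b) ^ l * ((a * x) ^ k * a * ((a * x) ^ k)⁻¹) * ((x * b) ^ l)⁻¹ by
          simp only [mul_assoc], hk, hl]
  · obtain ⟨k, hk⟩ := M.base.exists_conj hb ha hab
    exact ⟨_, hk⟩

/-- The commuting relation. -/
def setoid : Setoid ↥D where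
  r a b := Commute (a : G) (b : G)
  iseqv := ⟨fun _ => Commute.refl _, fun h => h.symm,
    fun {a b c} h1 h2 => M.trans a.2 b.2 c.2 h1 h2⟩

/-- The blocks. -/
abbrev Block : Type u := Quotient M.setoid

/-- The block of a member. -/
def cls {a : G} (ha : a ∈ D) : M.Block := Quotient.mk M.setoid ⟨a, ha⟩

theorem cls_eq {a b : G} (ha : a ∈ D) (hb : b ∈ D) : M.cls ha = M.cls hb ↔ Commute a b :=
  Quotient.eq

theorem exists_cls (ω : M.Block) : ∃ (a : G) (ha : a ∈ D), M.cls ha = ω :=
  Quotient.inductionOn ω fun a => ⟨a.1, a.2, rfl⟩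

/-- The action on blocks. -/
def act (g : G) : M.Block → M.Block :=
  Quotient.map (fun a => ⟨g * a.1 * g⁻¹, M.base.conj a.1 a.2 g⟩) fun a b h => by
    show Commute (g * a.1 * g⁻¹) (g * b.1 * g⁻¹)
    have := (show Commute (a : G) b from h).map (MulAut.conj g).toMonoidHom
    simpa using this

theorem act_cls (g : G) {a : G} (ha : a ∈ D) : M.act g (M.cls ha) = M.cls (M.base.conj a ha g) := rfl

theorem act_mul (g h : G) (ω : M.Block) : M.act (g * h) ω = M.act g (M.act h ω) := by
  obtain ⟨a, ha, rfl⟩ := M.exists_cls ω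
  rw [act_cls, act_cls, act_cls, cls_eq]
  have h1 : g * h * a * (g * h)⁻¹ = g * (h * a * h⁻¹) * g⁻¹ := by group
  rw [h1]

theorem act_one (ω : M.Block) : M.act 1 ω = ω := by
  obtain ⟨a, ha, rfl⟩ := M.exists_cls ω
  rw [act_cls, cls_eq]
  simp

/-- The action as a homomorphism. -/
def perm : G →* Equiv.Perm M.Block where
  toFun g := ⟨M.act g, M.act g⁻¹, fun ω => by rw [← act_mul, inv_mul_cancel, act_one],
    fun ω => by rw [← act_mul, mul_inv_cancel, act_one]⟩
  map_one' := Equiv.ext M.act_one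
  map_mul' g h := Equiv.ext fun ω => M.act_mul g h ω

theorem act_pow_eq {g : G} {ω : M.Block} (h : M.act g ω = ω) (k : ℕ) : M.act (g ^ k) ω = ω := by
  induction k with
  | zero => rw [pow_zero, act_one]
  | succ k ih => rw [pow_succ, act_mul, h, ih]

theorem act_invol {x : G} (hx : x ∈ D) (ω : M.Block) : M.act x (M.act x ω) = ω := by
  rw [← act_mul, M.base.sq hx, act_one]

/-- A member fixes only its own block. -/
theorem act_eq_self {x : G} (hx : x ∈ D) {ω : M.Block} : M.act x ω = ω ↔ M.cls hx = ω := by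
  obtain ⟨a, ha, rfl⟩ := M.exists_cls ω
  rw [act_cls, cls_eq, cls_eq, M.base.inv_eq hx]
  refine ⟨fun h => ?_, fun h => ?_⟩
  · refine M.base.commute_of_pow hx ha (k := 4) ?_ (by norm_num) (by have := M.base.five; omega)
    have h1 := sq_of_commute (M.base.sq (M.base.conj' (M.base.sq hx) ha)) (M.base.sq ha) h
    rw [show x * a * x * a = (x * a) ^ 2 by rw [pow_two, mul_assoc (x * a)], ← pow_mul] at h1
    exact h1
  · rw [h.eq, mul_assoc, M.base.sq hx, mul_one]

/-- The members of a block. -/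
def fib (ω : M.Block) : Set G := {a | ∃ ha : a ∈ D, M.cls ha = ω}

theorem fib_subset (ω : M.Block) : M.fib ω ⊆ D := fun _ h => h.1

theorem fib_comm {ω : M.Block} {a b : G} (ha : a ∈ M.fib ω) (hb : b ∈ M.fib ω) : Commute a b :=
  (M.cls_eq ha.1 hb.1).1 (ha.2.trans hb.2.symm)

theorem conj_mem_fib {ω : M.Block} {a g : G} (ha : a ∈ M.fib ω) (hg : M.act g ω = ω) :
    g * a * g⁻¹ ∈ M.fib ω :=
  ⟨M.base.conj a ha.1 g, by rw [← M.act_cls g ha.1, ha.2, hg]⟩

theorem ncard_fib (ω η : M.Block) : (M.fib ω).ncard = (M.fib η).ncard := by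
  obtain ⟨a, ha, rfl⟩ := M.exists_cls ω
  obtain ⟨b, hb, rfl⟩ := M.exists_cls η
  obtain ⟨g, rfl⟩ := M.isConj ha hb
  rw [← Set.ncard_image_of_injective (M.fib (M.cls ha)) (MulAut.conj g).injective]
  congr 1
  ext v
  constructor
  · rintro ⟨u, ⟨hu, hu'⟩, rfl⟩
    refine ⟨M.base.conj u hu g, ?_⟩
    exact (M.act_cls g hu).symm.trans ((congrArg (M.act g) hu').trans (M.act_cls g ha))
  · rintro ⟨hv, hv'⟩
    refine ⟨g⁻¹ * v * g, ⟨by simpa using M.base.conj v hv g⁻¹, ?_⟩, by simp [mul_assoc]⟩
    rw [cls_eq]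
    have := ((M.cls_eq hv hb).1 hv').map (MulAut.conj g⁻¹).toMonoidHom
    simpa [mul_assoc] using this

/-- The block together with `1` is an elementary abelian subgroup. -/
theorem exists_fib_pow (ω : M.Block) : ∃ e : ℕ, (M.fib ω).ncard + 1 = 2 ^ e := by
  haveI : Fact (Nat.Prime 2) := ⟨Nat.prime_two⟩
  let W : Subgroup G :=
    { carrier := insert 1 (M.fib ω)
      one_mem' := Set.mem_insert _ _
      mul_mem' := by
        intro u v hu hv
        rcases hu with rfl | hu
        · simpa using hv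
        rcases hv with rfl | hv
        · rw [mul_one]; exact Or.inr hu
        by_cases e : u = v
        · exact Or.inl (by rw [e, M.base.sq hv.1])
        · refine Or.inr ⟨M.mul_mem hu.1 hv.1 (M.fib_comm hu hv) e, ?_⟩
          exact ((M.cls_eq _ hu.1).2 ((Commute.refl u).mul_left (M.fib_comm hv hu))).trans hu.2
      inv_mem' := by
        intro u hu
        rcases hu with rfl | hu
        · exact Or.inl inv_one
        · rw [M.base.inv_eq hu.1]; exact Or.inr hu }
  have h2 : IsPGroup 2 W := fun u => ⟨1, Subtype.ext (by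
    rcases u.2 with e | hu
    · simp [e]
    · simpa [pow_two] using M.base.sq hu.1)⟩
  obtain ⟨e, he⟩ := IsPGroup.iff_card.1 h2
  refine ⟨e, ?_⟩
  rw [← he, ← Set.ncard_insert_of_notMem (fun h : (1 : G) ∈ M.fib ω => M.base.ne_one h.1 rfl)
    (Set.toFinite _)]
  exact Nat.card_coe_set_eq _ |>.symm

/-- Some block has two members. -/
theorem two_le_fib (ω : M.Block) : 2 ≤ (M.fib ω).ncard := by
  by_contra hlt
  obtain ⟨a, ha, rfl⟩ := M.exists_cls ω
  have hone : ∀ b ∈ D, ∀ c ∈ D, Commute b c → b = c := by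
    intro b hb c hc hbc
    have h1 : (M.fib (M.cls hb)).ncard ≤ 1 := by rw [M.ncard_fib _ (M.cls ha)]; omega
    exact (Set.ncard_le_one (Set.toFinite _)).1 h1 b ⟨hb, rfl⟩ c ⟨hc, (M.cls_eq hc hb).2 hbc.symm⟩
  have hsub : ∀ b ∈ conjugatesOf a, b ∈ D := by
    intro b hb
    obtain ⟨g, rfl⟩ := isConj_iff.1 hb
    exact M.base.conj a ha g
  have hpow : ∀ b ∈ conjugatesOf a, ∀ c ∈ conjugatesOf a, ∃ k : ℕ, orderOf (b * c) = p ^ k := by
    intro b hb c hc
    rcases M.base.prod b (hsub b hb) c (hsub c hc) with h | h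
    · exact ⟨0, by rw [hone b (hsub b hb) c (hsub c hc) h, M.base.sq (hsub c hc)]; simp⟩
    · exact ⟨1, by rw [h, pow_one]⟩
  haveI := Fact.mk M.base.prime
  have hbot : Cfsg.pCore p G = ⊥ := by
    refine M.rad _ (Cores.pCore_normal p) ?_
    haveI := (Cores.pCore_isPGroup (G := G) p).isNilpotent
    infer_instance
  refine M.base.ne_one ha (M.eq_one_of_commute M.gen fun b hb => ?_)
  obtain ⟨g, rfl⟩ := M.isConj ha hb
  have h1 := ZStar.OddProduct.product_mem_pCore M.base.prime
    (by have := M.base.five; omega) (M.base.inv a ha) hpow _ mem_conjugatesOf_self _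
    (isConj_iff.2 ⟨g, rfl⟩)
  rw [hbot, mem_bot] at h1
  have h2 := eq_inv_of_mul_eq_one_left h1
  rw [M.base.inv_eq (M.base.conj a ha g)] at h2
  rw [← h2]

end Minimal

end Cfsg.Agent.PrimeTransp
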