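import Mathlib
import Cfsg.Agent.Lib.PrimeTransp.Blocks

/-!
# No minimal counterexample

Counting the block pairs swapped by a non-commuting pair of members gives a contradiction.
-/

set_option autoImplicit false
set_option linter.unusedSectionVars false
set_option linter.style.haveILetI false

namespace Cfsg.Agent.PrimeTransp

open Subgroup Finset

universe u

theorem eq_one_of_two_pow {p i e : ℕ} (hp : Odd p) (h : p ^ i + 1 = 2 ^ e) (hi : 0 < i)
    (hp3 : 3 ≤ p) : i = 1 := by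
  obtain ⟨k, hk⟩ := hp
  rcases Nat.even_or_odd i with ⟨j, rfl⟩ | ⟨j, rfl⟩
  · exfalso
    have h1 : 4 ≤ 2 ^ e := by
      rw [← h]
      have : p ≤ p ^ (j + j) := Nat.le_self_pow (by omega) p
      omega
    obtain ⟨e, rfl⟩ : ∃ f, e = f + 2 := ⟨e - 2, by
      rcases e with _ | _ | e <;> simp_all⟩
    have h2 : p ^ (j + j) % 4 = 1 := by
      rw [← two_mul, pow_mul, Nat.pow_mod, show p ^ 2 % 4 = 1 by
        subst hk; rw [show (2 * k + 1) ^ 2 = 4 * (k * k + k) + 1 by ring]; omega]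
      simp
    rw [pow_add 2 e 2] at h
    omega
  · have h0 : 2 * (p + 1) ∣ p * p - 1 := ⟨k, by
      subst hk
      rw [show (2 * k + 1) * (2 * k + 1) = 2 * (2 * k + 1 + 1) * k + 1 by ring]
      omega⟩
    have hm : p ^ (2 * j + 1) + 1 ≡ p + 1 [MOD 2 * (p + 1)] := by
      have h1 : p * p ≡ 1 [MOD 2 * (p + 1)] :=
        ((Nat.modEq_iff_dvd' (show 1 ≤ p * p by nlinarith)).2 h0).symm
      have h2 := (h1.pow j).mul_right p
      rw [one_pow, one_mul] at h2
      exact (show p ^ (2 * j + 1) ≡ p [MOD 2 * (p + 1)] by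
        rwa [show p ^ (2 * j + 1) = (p * p) ^ j * p by rw [pow_succ, pow_mul, pow_two]]).add_right 1
    have hdvd : p + 1 ∣ 2 ^ e := by
      rw [← h]
      exact (Nat.modEq_zero_iff_dvd).1 ((hm.of_dvd (dvd_mul_left _ 2)).trans
        ((Nat.modEq_zero_iff_dvd).2 dvd_rfl))
    obtain ⟨f, hf, hf'⟩ := (Nat.dvd_prime_pow Nat.prime_two).1 hdvd
    rcases hf.eq_or_lt with rfl | hlt
    · have : p ^ (2 * j + 1) = p ^ 1 := by rw [pow_one]; omega
      exact Nat.pow_right_injective (by omega) this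
    · exfalso
      have h3 : 2 * (p + 1) ∣ p ^ (2 * j + 1) + 1 := by
        rw [h, hf', ← pow_succ']; exact pow_dvd_pow 2 hlt
      have h4 := Nat.modEq_zero_iff_dvd.1 ((hm.symm).trans (Nat.modEq_zero_iff_dvd.2 h3))
      have := Nat.le_of_dvd (by omega) h4
      omega

namespace Transp

variable {G : Type u} [Group G] [Finite G] {p : ℕ} {D : Set G}

/-- A set of pairwise non-commuting members, closed under conjugation by its members, has prime
power size. -/
theorem exists_ncard_pow (h : Transp p D) {S : Set G} (hS : S ⊆ D) {x₀ : G} (hx₀ : x₀ ∈ S)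
    (hn : ∀ x ∈ S, ∀ y ∈ S, Commute x y → x = y) (hc : ∀ x ∈ S, ∀ y ∈ S, x * y * x ∈ S) :
    ∃ j, S.ncard = p ^ j := by
  haveI := Fact.mk h.prime
  set P := closure S with hP
  have hcl : ∀ g ∈ P, (∀ s ∈ S, g * s * g⁻¹ ∈ S) ∧ ∀ s ∈ S, g⁻¹ * s * g ∈ S := by
    intro g hg
    induction hg using closure_induction with
    | mem w hw =>
      rw [h.inv_eq (hS hw)]
      exact ⟨hc w hw, hc w hw⟩
    | one => simp
    | mul u v _ _ hu hv =>
      refine ⟨fun s hs => ?_, fun s hs => ?_⟩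
      · have := hu.1 _ (hv.1 s hs); simpa [mul_assoc] using this
      · have := hv.2 _ (hu.2 s hs); simpa [mul_assoc] using this
    | inv u _ hu => rw [inv_inv]; exact ⟨hu.2, hu.1⟩
  let x₁ : P := ⟨x₀, subset_closure hx₀⟩
  have hd : orderOf x₁ = 2 := by
    rw [← Subgroup.orderOf_coe]; exact h.inv x₀ (hS hx₀)
  have hsub : ∀ b ∈ conjugatesOf x₁, (b : G) ∈ S := by
    intro b hb
    obtain ⟨g, rfl⟩ := isConj_iff.1 hb
    exact (hcl g g.2).1 x₀ hx₀
  have hpow : ∀ b ∈ conjugatesOf x₁, ∀ c ∈ conjugatesOf x₁, ∃ k : ℕ, orderOf (b * c) = p ^ k := by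
    intro b hb c hc'
    rw [← Subgroup.orderOf_coe, Subgroup.coe_mul]
    rcases h.prod _ (hS (hsub b hb)) _ (hS (hsub c hc')) with e | e
    · exact ⟨0, by rw [hn _ (hsub b hb) _ (hsub c hc') e, h.sq (hS (hsub c hc'))]; simp⟩
    · exact ⟨1, by rw [e, pow_one]⟩
  set R := Cfsg.pCore p P with hR
  set C := (centralizer ({x₁} : Set P)).subgroupOf R with hC
  have hcard : S.ncard = C.index := by
    rw [index_eq_card, ← Nat.card_coe_set_eq]
    symm
    let f : R ⧸ C → S := Quotient.lift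
      (fun g => (⟨((g : P) : G) * x₀ * ((g : P) : G)⁻¹, (hcl _ (g : P).2).1 x₀ hx₀⟩ : S))
      (by
        intro g g' hgg'
        have h1 : g⁻¹ * g' ∈ C := (QuotientGroup.leftRel_apply).1 hgg'
        rw [hC, mem_subgroupOf, mem_centralizer_singleton_iff] at h1
        have h2 := congrArg (fun v : P => (v : G)) h1
        simp only [Subgroup.coe_mul, InvMemClass.coe_inv, x₁] at h2
        apply Subtype.ext
        show ((g : P) : G) * x₀ * ((g : P) : G)⁻¹ = ((g' : P) : G) * x₀ * ((g' : P) : G)⁻¹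
        rw [mul_inv_eq_iff_eq_mul, mul_assoc _ ((g' : P) : G)⁻¹]
        have h3 := congrArg (fun v => ((g : P) : G) * v * (((g' : P) : G)⁻¹ * ((g : P) : G))) h2
        simpa [mul_assoc] using h3.symm)
    refine Nat.card_congr (Equiv.ofBijective f ⟨?_, ?_⟩)
    · intro a b hab
      induction a using Quotient.inductionOn with | _ g => ?_
      induction b using Quotient.inductionOn with | _ g' => ?_
      refine Quotient.sound ?_
      show (QuotientGroup.leftRel C) g g'
      rw [QuotientGroup.leftRel_apply, hC, mem_subgroupOf, mem_centralizer_singleton_iff]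
      have h2 : ((g : P) : G) * x₀ * ((g : P) : G)⁻¹ = ((g' : P) : G) * x₀ * ((g' : P) : G)⁻¹ :=
        congrArg Subtype.val hab
      apply Subtype.ext
      have h3 := congrArg (fun v => ((g : P) : G)⁻¹ * v * ((g' : P) : G)) h2
      simpa [mul_assoc, x₁] using h3.symm
    · rintro ⟨s, hs⟩
      by_cases e : s = x₀
      · exact ⟨Quotient.mk _ 1, Subtype.ext (by simp [f, e])⟩
      · have hns : ¬ Commute x₀ s := fun h' => e (hn x₀ hx₀ s hs h').symm
        obtain ⟨k, hk⟩ := h.exists_conj (hS hs) (hS hx₀) hns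
        let s₁ : P := ⟨s, subset_closure hs⟩
        have hconj : s₁ ∈ conjugatesOf x₁ :=
          isConj_iff.2 ⟨(x₁ * s₁) ^ k, Subtype.ext (by simpa [x₁, s₁] using hk)⟩
        have hmem : x₁ * s₁ ∈ R := ZStar.OddProduct.product_mem_pCore h.prime
          (by have := h.five; omega) hd hpow _ mem_conjugatesOf_self _ hconj
        exact ⟨Quotient.mk _ ⟨(x₁ * s₁) ^ k, pow_mem hmem k⟩,
          Subtype.ext (by simpa [f, x₁, s₁] using hk)⟩
  obtain ⟨n, hn'⟩ := IsPGroup.iff_card.1 (Cores.pCore_isPGroup (G := ↥P) p)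
  obtain ⟨j, -, hj⟩ := (Nat.dvd_prime_pow h.prime).1 (hn' ▸ C.index_dvd_card)
  exact ⟨j, hcard.trans hj⟩

end Transp

namespace Minimal

variable {G : Type u} [Group G] [Finite G] {p : ℕ} {D : Set G}
variable (M : Minimal p D)
include M

theorem conj_mem_fib_act {ω : M.Block} {a : G} (ha : a ∈ M.fib ω) (g : G) :
    g * a * g⁻¹ ∈ M.fib (M.act g ω) :=
  ⟨M.base.conj a ha.1 g, (M.act_cls g ha.1).symm.trans (congrArg (M.act g) ha.2)⟩

/-- The members moving `Γ` to `Δ`. -/
def swap (Γ Δ : M.Block) : Set G := {x | x ∈ D ∧ M.act x Γ = Δ}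

theorem swap_back {Γ Δ : M.Block} {x : G} (hx : x ∈ M.swap Γ Δ) : M.act x Δ = Γ := by
  rw [← hx.2, M.act_invol hx.1]

theorem swap_ne_comm {Γ Δ : M.Block} (hne : Γ ≠ Δ) {x y : G} (hx : x ∈ M.swap Γ Δ)
    (hy : y ∈ M.swap Γ Δ) (hc : Commute x y) : x = y := by
  by_contra e
  have hz := M.mul_mem hx.1 hy.1 hc e
  have h1 : M.act (x * y) Γ = Γ := by rw [M.act_mul, hy.2, M.swap_back hx]
  have h2 : M.cls hx.1 = M.cls hz :=
    (M.cls_eq _ hz).2 ((Commute.refl x).mul_right hc)
  rw [(M.act_eq_self hz).1 h1, ← M.act_eq_self hx.1, hx.2] at h2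
  exact hne h2.symm

theorem swap_ncard_le {Γ Δ : M.Block} : (M.swap Γ Δ).ncard ≤ (M.fib Γ).ncard := by
  by_cases hne : Γ = Δ
  · refine le_of_eq (congrArg Set.ncard ?_)
    subst hne
    ext x
    exact ⟨fun hx => ⟨hx.1, (M.act_eq_self hx.1).1 hx.2⟩,
      fun hx => ⟨hx.1, (M.act_eq_self hx.1).2 hx.2⟩⟩
  · obtain ⟨a, ha, rfl⟩ := M.exists_cls Γ
    rw [M.ncard_fib (M.cls ha) Δ]
    refine Set.ncard_le_ncard_of_injOn (fun x => x * a * x⁻¹) ?_ ?_ (Set.toFinite _)
    · intro x hx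
      have := M.conj_mem_fib_act (ω := M.cls ha) ⟨ha, rfl⟩ x
      rwa [hx.2] at this
    · intro x hx y hy hxy
      simp only [M.base.inv_eq hx.1, M.base.inv_eq hy.1] at hxy
      by_contra e
      have hc : Commute a (x * y) := by
        show a * (x * y) = x * y * a
        calc a * (x * y) = x * (x * a * x) * y := by
              simp only [← mul_assoc, M.base.sq hx.1, one_mul]
          _ = x * (y * a * y) * y := by rw [hxy]
          _ = _ := by simp only [mul_assoc, M.base.sq hy.1, mul_one]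
      have h1 := M.base.commute_of_commute_line hx.1 hy.1 ha
        (fun h => e (M.swap_ne_comm hne hx hy h)) hc
      have h2 : M.act x (M.cls ha) = M.cls ha :=
        (M.act_eq_self hx.1).2 ((M.cls_eq _ ha).2 h1.1.symm)
      exact hne (h2.symm.trans hx.2)

theorem ncard_D [Fintype M.Block] (Γ : M.Block) :
    D.ncard = Fintype.card M.Block * (M.fib Γ).ncard := by
  classical
  haveI := Fintype.ofFinite ↥D
  have e : ∀ ω : M.Block, Fintype.card {a : ↥D // Quotient.mk M.setoid a = ω} =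
      (M.fib Γ).ncard := by
    intro ω
    rw [← M.ncard_fib ω Γ, ← Nat.card_coe_set_eq, ← Nat.card_eq_fintype_card]
    exact Nat.card_congr
      ⟨fun a => ⟨a.1.1, a.1.2, a.2⟩, fun b => ⟨⟨b.1, b.2.1⟩, b.2.2⟩, fun _ => rfl, fun _ => rfl⟩
  rw [← Nat.card_coe_set_eq, Nat.card_eq_fintype_card,
    ← Fintype.card_congr (Equiv.sigmaFiberEquiv (fun a : ↥D => Quotient.mk M.setoid a)),
    Fintype.card_sigma]
  simp only [e, Finset.sum_const, Finset.card_univ, smul_eq_mul]

/-- All sets of swapping members have full size. -/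
theorem swap_ncard (Γ Δ : M.Block) : (M.swap Γ Δ).ncard = (M.fib Γ).ncard := by
  classical
  haveI := Fintype.ofFinite ↥D
  haveI := Fintype.ofFinite M.Block
  have e : ∀ ω : M.Block, Fintype.card {a : ↥D // M.act a.1 Γ = ω} = (M.swap Γ ω).ncard := by
    intro ω
    rw [← Nat.card_coe_set_eq, ← Nat.card_eq_fintype_card]
    exact Nat.card_congr
      ⟨fun a => ⟨a.1.1, a.1.2, a.2⟩, fun b => ⟨⟨b.1, b.2.1⟩, b.2.2⟩, fun _ => rfl, fun _ => rfl⟩
  have h1 : ∑ ω : M.Block, (M.swap Γ ω).ncard = ∑ _ω : M.Block, (M.fib Γ).ncard := by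
    simp only [← e]
    rw [← Fintype.card_sigma, Fintype.card_congr (Equiv.sigmaFiberEquiv _), ← Nat.card_eq_fintype_card,
      Nat.card_coe_set_eq, M.ncard_D Γ, Finset.sum_const, Finset.card_univ, smul_eq_mul]
  exact (Finset.sum_eq_sum_iff_of_le fun ω _ => M.swap_ncard_le).1 h1 Δ (Finset.mem_univ _)

theorem exists_ne : ∃ Γ Δ : M.Block, Γ ≠ Δ := by
  obtain ⟨a, ha⟩ := M.nonempty
  obtain ⟨b, hb, hne⟩ : ∃ b ∈ M.fib (M.cls ha), b ≠ a :=
    Set.exists_ne_of_one_lt_ncard (by have := M.two_le_fib (M.cls ha); omega) a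
  obtain ⟨x, T⟩ := M.exists_triple ha hb.1 (M.fib_comm ⟨ha, rfl⟩ hb) hne.symm
  exact ⟨M.cls T.mx, M.cls ha, fun h => T.xa ((M.cls_eq _ _).1 h)⟩

/-- The common block size is `p`. -/
theorem fib_eq_p (ω : M.Block) : (M.fib ω).ncard = p := by
  obtain ⟨Γ, Δ, hne⟩ := M.exists_ne
  rw [M.ncard_fib ω Γ]
  have h2 := M.two_le_fib Γ
  have hJ := M.swap_ncard Γ Δ
  obtain ⟨x₀, hx₀⟩ : (M.swap Γ Δ).Nonempty := by
    apply Set.nonempty_of_ncard_ne_zero; omega
  obtain ⟨i, hi⟩ := M.base.exists_ncard_pow (S := M.swap Γ Δ) (fun x hx => hx.1) hx₀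
    (fun x hx y hy => M.swap_ne_comm hne hx hy) (fun x hx y hy =>
      ⟨M.base.conj' (M.base.sq hx.1) hy.1, by
        rw [M.act_mul, M.act_mul, hx.2, M.swap_back hy, hx.2]⟩)
  obtain ⟨e, he⟩ := M.exists_fib_pow Γ
  rw [hJ] at hi
  have hi0 : 0 < i := Nat.pos_of_ne_zero fun h => by rw [h, pow_zero] at hi; omega
  rw [hi, eq_one_of_two_pow M.base.odd (hi ▸ he) hi0 (by have := M.base.five; omega), pow_one]

theorem line {Γ Δ : M.Block} (hne : Γ ≠ Δ) {x y : G} (hx : x ∈ M.swap Γ Δ)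
    (hy : y ∈ M.swap Γ Δ) (hxy : x ≠ y) {w : G} (hw : w ∈ M.swap Γ Δ) :
    ∃ k : ℕ, w = x * (x * y) ^ k := by
  classical
  have hn : ¬ Commute x y := fun h => hxy (M.swap_ne_comm hne hx hy h)
  have hr : orderOf (x * y) = p := (M.base.prod x hx.1 y hy.1).resolve_left hn
  obtain ⟨c, hc⟩ := M.base.exists_half
  have hfix : M.act (x * y) Γ = Γ := by rw [M.act_mul, hy.2, M.swap_back hx]
  have hmem : ∀ k : ℕ, x * (x * y) ^ k ∈ M.swap Γ Δ := by
    intro k
    refine ⟨?_, by rw [M.act_mul, M.act_pow_eq hfix, hx.2]⟩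
    have h1 : (x * y) ^ k = (x * y) ^ (k * (c + 1)) * (x * y) ^ (k * (c + 1)) := by
      rw [← pow_add, show k * (c + 1) + k * (c + 1) = k + p * k by rw [hc]; ring, pow_add, pow_mul,
        ← hr, pow_orderOf_eq_one, one_pow, mul_one]
    rw [h1, ← mul_assoc, refl_pow (M.base.sq hx.1) (refl_inv (M.base.sq hx.1) (M.base.sq hy.1))]
    simpa using M.base.conj x hx.1 ((x * y) ^ (k * (c + 1)))⁻¹
  let T : Set G := (fun k : ℕ => x * (x * y) ^ k) '' Set.Iio p
  have hT : T.ncard = p := by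
    rw [Set.InjOn.ncard_image, ← Finset.coe_Iio, Set.ncard_coe_finset, Nat.card_Iio]
    intro k hk l hl hkl
    refine pow_injOn_Iio_orderOf ?_ ?_ (mul_left_cancel hkl) <;> simpa [hr]
  have hsub : T ⊆ M.swap Γ Δ := by
    rintro _ ⟨k, -, rfl⟩
    exact hmem k
  have heq := Set.eq_of_subset_of_ncard_le hsub
    (by rw [hT, M.swap_ncard, M.fib_eq_p]) (Set.toFinite _)
  rw [← heq] at hw
  obtain ⟨k, -, rfl⟩ := hw
  exact ⟨k, rfl⟩

/-- An element of period `p` centralising a member centralises its block. -/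
theorem commute_fib {s x e : G} (hs : s ^ p = 1) {Θ : M.Block} (hx : x ∈ M.fib Θ)
    (he : e ∈ M.fib Θ) (hsx : Commute s x) : Commute s e := by
  by_contra hse
  have hΘ : M.act s Θ = Θ := by
    rw [← hx.2, M.act_cls, M.cls_eq]
    rw [hsx.eq, mul_inv_cancel_right]
  let T : Set G := (fun k : ℕ => s ^ k * e * (s ^ k)⁻¹) '' Set.Iio p
  have hinj : Set.InjOn (fun k : ℕ => s ^ k * e * (s ^ k)⁻¹) (Set.Iio p) := by
    have key : ∀ k l : ℕ, k ≤ l → l < p → s ^ k * e * (s ^ k)⁻¹ = s ^ l * e * (s ^ l)⁻¹ → k = l := by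
      intro k l hkl hl heq
      by_contra hne'
      obtain ⟨d, rfl⟩ := Nat.exists_eq_add_of_le hkl
      rw [pow_add, mul_inv_rev] at heq
      have h1 : e = s ^ d * e * (s ^ d)⁻¹ := by
        apply mul_left_cancel (a := s ^ k)
        apply mul_right_cancel (b := (s ^ k)⁻¹)
        simpa [mul_assoc] using heq
      have h2 : Commute (s ^ d) e := by
        show s ^ d * e = e * s ^ d
        conv_rhs => rw [h1, inv_mul_cancel_right]
      obtain ⟨m, -, hm⟩ := Nat.exists_mul_mod_eq_one_of_coprime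
        (show Nat.Coprime d p from ((Nat.Prime.coprime_iff_not_dvd M.base.prime).2
          (Nat.not_dvd_of_pos_of_lt (by omega) (by omega))).symm) (by have := M.base.five; omega)
      have h3 := h2.pow_left m
      rw [← pow_mul, pow_eq_pow_mod _ hs, hm, pow_one] at h3
      exact hse h3
    intro k hk l hl heq
    rcases le_total k l with h | h
    · exact key k l h hl heq
    · exact (key l k h hk heq.symm).symm
  have hT : T.ncard = p := by
    rw [Set.InjOn.ncard_image hinj, ← Finset.coe_Iio, Set.ncard_coe_finset, Nat.card_Iio]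
  have hsub : T ⊆ M.fib Θ \ {x} := by
    rintro _ ⟨k, -, rfl⟩
    refine ⟨M.conj_mem_fib he (M.act_pow_eq hΘ k), fun h => ?_⟩
    rw [Set.mem_singleton_iff] at h
    have h1 := hsx.pow_left k
    apply hse
    have : e = x := by
      apply mul_left_cancel (a := s ^ k)
      rw [h1.eq, ← h, inv_mul_cancel_right]
    rwa [this]
  have := Set.ncard_le_ncard hsub (Set.toFinite _)
  rw [hT, Set.ncard_sdiff_singleton_of_mem hx, M.fib_eq_p] at this
  have := M.base.five
  omega

/-- An element of period `p` fixing two blocks lies in the cyclic group of their swapping pair. -/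
theorem mem_zpowers_of_fix {g x y : G} {Γ Δ : M.Block} (hg : g ^ p = 1) (hne : Γ ≠ Δ)
    (hΓ : M.act g Γ = Γ) (hΔ : M.act g Δ = Δ) (hx : x ∈ M.swap Γ Δ) (hy : y ∈ M.swap Γ Δ)
    (hxy : x ≠ y) : g ∈ zpowers (x * y) := by
  haveI := Fact.mk M.base.prime
  have hn : ¬ Commute x y := fun h => hxy (M.swap_ne_comm hne hx hy h)
  have hr : orderOf (x * y) = p := (M.base.prod x hx.1 y hy.1).resolve_left hn
  have hrp : (x * y) ^ p = 1 := by rw [← hr, pow_orderOf_eq_one]
  have hinvΔ : M.act g⁻¹ Γ = Γ := by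
    conv_lhs => rw [← hΓ, ← M.act_mul, inv_mul_cancel, M.act_one]
  have hcj : ∀ w ∈ M.swap Γ Δ, g * w * g⁻¹ ∈ M.swap Γ Δ := fun w hw =>
    ⟨M.base.conj w hw.1 g, by rw [M.act_mul, M.act_mul, hinvΔ, hw.2, hΔ]⟩
  have hu := refl_inv (M.base.sq hx.1) (M.base.sq hy.1)
  -- `g` normalises, hence centralises, the cyclic group
  obtain ⟨i, hi⟩ := M.line hne hx hy hxy (hcj x hx)
  obtain ⟨l, hl⟩ := M.line hne hx hy hxy (hcj y hy)
  obtain ⟨a, ha⟩ : ∃ a : ℕ, g * (x * y) * g⁻¹ = (x * y) ^ a := by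
    have h1 : g * (x * y) * g⁻¹ = ((x * y) ^ i)⁻¹ * (x * y) ^ l := by
      rw [show g * (x * y) * g⁻¹ = g * x * g⁻¹ * (g * y * g⁻¹) by group, hi, hl,
        ← mul_assoc (x * (x * y) ^ i), refl_pow (M.base.sq hx.1) hu i, mul_assoc _ x x,
        M.base.sq hx.1, mul_one]
    obtain ⟨a, ha⟩ := mem_powers_iff_mem_zpowers.2
      (h1 ▸ Subgroup.mul_mem _ (inv_mem (pow_mem (mem_zpowers _) i))
        (pow_mem (mem_zpowers _) l) : g * (x * y) * g⁻¹ ∈ zpowers (x * y))
    exact ⟨a, ha.symm⟩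
  have hiter : ∀ n : ℕ, g ^ n * (x * y) * (g ^ n)⁻¹ = (x * y) ^ (a ^ n) := by
    intro n
    induction n with
    | zero => simp
    | succ n ih =>
      calc g ^ (n + 1) * (x * y) * (g ^ (n + 1))⁻¹
          = g * (g ^ n * (x * y) * (g ^ n)⁻¹) * g⁻¹ := by rw [pow_succ']; group
        _ = (g * (x * y) * g⁻¹) ^ (a ^ n) := by rw [ih, conj_pow]
        _ = _ := by rw [ha, ← pow_mul, pow_succ']
  have hcr : Commute g (x * y) := by
    have h1 := hiter p
    rw [hg, inv_one, one_mul, mul_one] at h1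
    have h2 : (x * y) ^ 1 = (x * y) ^ (a ^ p) := by rw [pow_one]; exact h1
    rw [pow_eq_pow_iff_modEq, hr, ← ZMod.natCast_eq_natCast_iff] at h2
    have h3 : (x * y) ^ a = (x * y) ^ 1 := by
      rw [pow_eq_pow_iff_modEq, hr, ← ZMod.natCast_eq_natCast_iff]
      rw [h2, Nat.cast_pow, ZMod.pow_card]
    rw [pow_one] at h3
    exact mul_inv_eq_iff_eq_mul.1 (ha.trans h3)
  obtain ⟨c, hc⟩ := M.base.exists_half
  -- adjust by a power to centralise `x`
  obtain ⟨j, hj⟩ : ∃ j, i + p * i = 2 * j := ⟨i * (c + 1), by rw [hc]; ring⟩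
  set s := (x * y) ^ j * g with hs
  have hsp : s ^ p = 1 := by
    rw [hs, (hcr.pow_right j).symm.mul_pow, ← pow_mul, mul_comm, pow_mul, hrp, one_pow, hg, one_mul]
  have hsx : Commute s x := by
    have h1 : g * x = x * (x * y) ^ (2 * j) * g := by
      rw [← hj, pow_add, pow_mul, hrp, one_pow, mul_one, ← hi, inv_mul_cancel_right]
    show s * x = x * s
    rw [hs, mul_assoc, h1, two_mul, pow_add, ← mul_assoc x, refl_pow (M.base.sq hx.1) hu j]
    simp only [← mul_assoc, mul_inv_cancel, one_mul]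
  have hsr : Commute s (x * y) := ((Commute.refl (x * y)).pow_left j).mul_left hcr
  have hsy : Commute s y := by
    have := hsx.mul_right hsr
    rwa [← mul_assoc, M.base.sq hx.1, one_mul] at this
  obtain ⟨e, he, hex⟩ : ∃ e ∈ M.fib (M.cls hx.1), e ≠ x :=
    Set.exists_ne_of_one_lt_ncard (by have := M.two_le_fib (M.cls hx.1); omega) x
  have hse := M.commute_fib hsp (Θ := M.cls hx.1) ⟨hx.1, rfl⟩ he hsx
  have hxe : Commute x e := M.fib_comm ⟨hx.1, rfl⟩ he
  have T : IsTriple D x e y := ⟨hx.1, he.1, hy.1, hxe, hex.symm, fun h => hn h.symm,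
    fun h => hn (M.trans hx.1 he.1 hy.1 hxe h.symm)⟩
  have h1 := M.eq_one_of_triple T hsx hse hsy
  rw [hs] at h1
  rw [eq_inv_of_mul_eq_one_right h1]
  exact inv_mem (pow_mem (mem_zpowers _) _)

theorem not_dvd_card [Fintype M.Block] : ¬ p ∣ Fintype.card M.Block := by
  classical
  haveI := Fact.mk M.base.prime
  haveI := Fintype.ofFinite G
  have hp5 := M.base.five
  obtain ⟨Γ, Δ, hne⟩ := M.exists_ne
  have hJ : (M.swap Γ Δ).ncard = p := by rw [M.swap_ncard, M.fib_eq_p]
  obtain ⟨x, hx⟩ : (M.swap Γ Δ).Nonempty := Set.nonempty_of_ncard_ne_zero (by omega)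
  obtain ⟨y, hy, hyx⟩ := Set.exists_ne_of_one_lt_ncard (by omega : 1 < (M.swap Γ Δ).ncard) x
  have hn : ¬ Commute x y := fun h => hyx (M.swap_ne_comm hne hx hy h).symm
  obtain ⟨r, hr⟩ : ∃ r, r = x * y := ⟨_, rfl⟩
  have hro : orderOf r = p := hr ▸ (M.base.prod x hx.1 y hy.1).resolve_left hn
  have hrp : r ^ p = 1 := by rw [← hro, pow_orderOf_eq_one]
  have hr1 : r ≠ 1 := fun e => by rw [e, orderOf_one] at hro; omega
  set F : Finset M.Block := Finset.univ.filter fun ω => M.act r ω = ω with hF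
  have hΓF : Γ ∈ F := by simp [hF, hr, M.act_mul, hy.2, M.swap_back hx]
  -- the members inverting `r`
  set I : Finset G := Finset.univ.filter fun v => v ∈ D ∧ v * r * v = r⁻¹ with hI
  have hxI : x ∈ I := by
    simp only [hI, Finset.mem_filter, Finset.mem_univ, true_and]
    exact ⟨hx.1, hr ▸ refl_inv (M.base.sq hx.1) (M.base.sq hy.1)⟩
  have hIm : ∀ v, v ∈ I ↔ v ∈ D ∧ v * r * v = r⁻¹ := fun v => by simp [hI]
  have hIn : ∀ u ∈ (I : Set G), ∀ v ∈ (I : Set G), Commute u v → u = v := by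
    intro u hu v hv huv
    rw [Finset.mem_coe, hIm] at hu hv
    by_contra e
    have hz := M.mul_mem hu.1 hv.1 huv e
    have hzr : Commute (u * v) r := by
      have hinv : ∀ w : G, w ∈ D → w * r * w = r⁻¹ → w * r⁻¹ * w = r := fun w hw h => by
        rw [← h]; simp only [← mul_assoc, M.base.sq hw, one_mul]
        rw [mul_assoc, M.base.sq hw, mul_one]
      show u * v * r = r * (u * v)
      calc u * v * r = u * (v * r * v) * v := by simp only [mul_assoc, M.base.sq hv.1, mul_one]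
        _ = u * r⁻¹ * v := by rw [hv.2]
        _ = u * r⁻¹ * u * (u * v) := by
          simp only [mul_assoc]; rw [← mul_assoc u u v, M.base.sq hu.1, one_mul]
        _ = r * (u * v) := by rw [hinv u hu.1 hu.2]
    obtain ⟨h1, h2⟩ := M.base.commute_of_commute_line hx.1 hy.1 hz hn (hr ▸ hzr)
    exact hn (M.trans hx.1 hz hy.1 h1.symm h2)
  have hIc : ∀ u ∈ (I : Set G), ∀ v ∈ (I : Set G), u * v * u ∈ (I : Set G) := by
    intro u hu v hv
    rw [Finset.mem_coe, hIm] at hu hv ⊢
    refine ⟨M.base.conj' (M.base.sq hu.1) hv.1, ?_⟩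
    have h2 : u * r⁻¹ * u = r := by
      rw [← hu.2]; simp only [← mul_assoc, M.base.sq hu.1, one_mul]
      rw [mul_assoc, M.base.sq hu.1, mul_one]
    have h3 : v * r⁻¹ * v = r := by
      rw [← hv.2]; simp only [← mul_assoc, M.base.sq hv.1, one_mul]
      rw [mul_assoc, M.base.sq hv.1, mul_one]
    calc u * v * u * r * (u * v * u) = u * (v * (u * r * u) * v) * u := by simp only [mul_assoc]
      _ = u * r * u := by rw [hu.2, h3]; exact hu.2
      _ = r⁻¹ := hu.2
  obtain ⟨j, hj⟩ := M.base.exists_ncard_pow (S := (I : Set G))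
    (fun v hv => ((hIm v).1 hv).1) hxI hIn hIc
  rw [Set.ncard_coe_finset] at hj
  have hmaps : (I : Set G).MapsTo (fun v => M.act v Γ) ↑(F.erase Γ) := by
    intro v hv
    rw [Finset.mem_coe, hIm] at hv
    simp only [Finset.mem_coe, Finset.mem_erase, hF, Finset.mem_filter, Finset.mem_univ, true_and]
    have hrΓ : M.act r Γ = Γ := by simpa [hF] using hΓF
    have hriΓ : M.act r⁻¹ Γ = Γ := by
      conv_lhs => rw [← hrΓ, ← M.act_mul, inv_mul_cancel, M.act_one]
    refine ⟨fun hfix => ?_, ?_⟩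
    · have hvf : v ∈ M.fib Γ := ⟨hv.1, (M.act_eq_self hv.1).1 hfix⟩
      have hc := M.fib_comm (M.conj_mem_fib hvf hrΓ) hvf
      have h1 := sq_of_commute (M.base.sq (M.base.conj v hv.1 r)) (M.base.sq hv.1) hc
      rw [mul_assoc r v r⁻¹, mul_assoc r, show v * r⁻¹ * v = r by
        rw [← hv.2]; simp only [← mul_assoc, M.base.sq hv.1, one_mul]
        rw [mul_assoc, M.base.sq hv.1, mul_one], ← pow_two, ← pow_mul] at h1
      exact hr1 (M.base.eq_one_of_pow hrp h1 (by norm_num) (by omega))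
    · have e : r * v = v * r⁻¹ := by
        rw [← hv.2]; simp only [← mul_assoc, M.base.sq hv.1, one_mul]
      rw [← M.act_mul, e, M.act_mul, hriΓ]
  have hfib : ∀ Θ ∈ F.erase Γ, (I.filter fun v => M.act v Γ = Θ).card = p := by
    intro Θ hΘ
    simp only [Finset.mem_erase, hF, Finset.mem_filter, Finset.mem_univ, true_and] at hΘ
    have hJ' : (M.swap Γ Θ).ncard = p := by rw [M.swap_ncard, M.fib_eq_p]
    obtain ⟨a, ha⟩ : (M.swap Γ Θ).Nonempty := Set.nonempty_of_ncard_ne_zero (by omega)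
    obtain ⟨b, hb, hba⟩ := Set.exists_ne_of_one_lt_ncard (by omega : 1 < (M.swap Γ Θ).ncard) a
    have hrz := M.mem_zpowers_of_fix hrp hΘ.1.symm (by simpa [hF] using hΓF) hΘ.2 ha hb hba.symm
    have e : (I.filter fun v => M.act v Γ = Θ : Finset G) = (M.swap Γ Θ).toFinset := by
      ext v
      rw [Finset.mem_filter, hIm, Set.mem_toFinset]
      refine ⟨fun h => ⟨h.1.1, h.2⟩, fun hv => ⟨⟨hv.1, ?_⟩, hv.2⟩⟩
      obtain ⟨k, rfl⟩ := M.line hΘ.1.symm ha hb hba.symm hv
      obtain ⟨n, rfl⟩ : ∃ n : ℕ, (a * b) ^ n = r := by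
        obtain ⟨n, hn'⟩ := mem_powers_iff_mem_zpowers.2 hrz
        exact ⟨n, hn'⟩
      have hu := refl_inv (M.base.sq ha.1) (M.base.sq hb.1)
      have hk2 : a * (a * b) ^ k * (a * (a * b) ^ k) = 1 := by
        rw [← mul_assoc, refl_pow (M.base.sq ha.1) hu k]
        simp only [mul_assoc, ← mul_assoc a a, M.base.sq ha.1, one_mul, inv_mul_cancel]
      calc a * (a * b) ^ k * (a * b) ^ n * (a * (a * b) ^ k)
          = a * ((a * b) ^ n * (a * b) ^ k) * (a * (a * b) ^ k) := by
            rw [mul_assoc a, ((Commute.refl (a * b)).pow_pow k n).eq]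
        _ = ((a * b) ^ n)⁻¹ * (a * (a * b) ^ k * (a * (a * b) ^ k)) := by
            rw [← mul_assoc a, refl_pow (M.base.sq ha.1) hu n]; simp only [mul_assoc]
        _ = _ := by rw [hk2, mul_one]
    rw [e, ← Set.ncard_eq_toFinset_card', hJ']
  have hcardI : I.card = (F.erase Γ).card * p := by
    rw [Finset.card_eq_sum_card_fiberwise hmaps, Finset.sum_congr rfl hfib, Finset.sum_const,
      smul_eq_mul]
  have hσ : (M.perm r) ^ p ^ 1 = 1 := by rw [pow_one, ← map_pow, hrp, map_one]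
  have hmod := Equiv.Perm.card_compl_support_modEq hσ
  have hsupp : (M.perm r).supportᶜ = F := by
    ext ω
    simp [hF, perm]
  rw [hsupp] at hmod
  intro hdvd
  have hFdvd : p ∣ F.card := (Nat.modEq_zero_iff_dvd).1 (hmod.trans (Nat.modEq_zero_iff_dvd.2 hdvd))
  rw [Finset.card_erase_of_mem hΓF] at hcardI
  have hFpos : 0 < F.card := Finset.card_pos.2 ⟨Γ, hΓF⟩
  rw [hj] at hcardI
  rcases j with _ | _ | j
  · rw [pow_zero] at hcardI
    have := Nat.eq_one_of_mul_eq_one_left hcardI.symm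
    omega
  · rw [zero_add, pow_one] at hcardI
    have h1 : F.card - 1 = 1 := Nat.eq_of_mul_eq_mul_right (by omega) (hcardI.symm.trans (one_mul p).symm)
    have := Nat.le_of_dvd hFpos hFdvd
    omega
  · have h1 : F.card - 1 = p ^ (j + 1) :=
      Nat.eq_of_mul_eq_mul_right (by omega : 0 < p) (by rw [← hcardI, pow_succ])
    have h2 : p ∣ F.card - 1 := h1 ▸ dvd_pow_self p (by omega)
    have h3 := Nat.dvd_sub hFdvd h2
    rw [show F.card - (F.card - 1) = 1 by omega] at h3
    exact M.base.prime.not_dvd_one h3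

theorem false : False := by
  classical
  haveI := Fintype.ofFinite G
  haveI := Fintype.ofFinite M.Block
  haveI := Fact.mk M.base.prime
  have hp5 := M.base.five
  set N := Fintype.card M.Block with hN
  obtain ⟨Γ₀, Δ₀, hne₀⟩ := M.exists_ne
  have hN2 : 1 < N := Fintype.one_lt_card_iff.2 ⟨Γ₀, Δ₀, hne₀⟩
  set Df : Finset G := D.toFinset with hDf
  have hDcard : Df.card = N * p := by
    rw [hDf, ← Set.ncard_eq_toFinset_card', M.ncard_D Γ₀, M.fib_eq_p]
  have hrest : ∀ Θ : M.Block, (Df.filter fun v => v ∉ M.fib Θ).card = N * p - p := by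
    intro Θ
    have h1 := Finset.card_filter_add_card_filter_not (s := Df) (fun v => v ∈ M.fib Θ)
    have h2 : (Df.filter fun v => v ∈ M.fib Θ).card = p := by
      rw [show (Df.filter fun v => v ∈ M.fib Θ) = (M.fib Θ).toFinset by
        ext v; simp only [Finset.mem_filter, hDf, Set.mem_toFinset]
        exact ⟨fun h => h.2, fun h => ⟨h.1, h⟩⟩, ← Set.ncard_eq_toFinset_card', M.fib_eq_p]
    omega
  set P : Finset (G × G) := (Df ×ˢ Df).filter fun q => ¬ Commute q.1 q.2 with hP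
  have hPcard : P.card = N * p * (N * p - p) := by
    rw [Finset.card_eq_sum_card_fiberwise (f := Prod.fst) (t := Df) (fun q hq => by
      simp only [hP, Finset.mem_coe, Finset.mem_filter, Finset.mem_product] at hq; exact hq.1.1)]
    have : ∀ a ∈ Df, (P.filter fun q => q.1 = a).card = N * p - p := by
      intro a ha
      have haD : a ∈ D := Set.mem_toFinset.1 ha
      rw [← hrest (M.cls haD)]
      refine Finset.card_bij (fun q _ => q.2) ?_ ?_ ?_
      · intro q hq
        simp only [hP, Finset.mem_filter, Finset.mem_product] at hq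
        obtain ⟨⟨⟨-, h2⟩, h3⟩, h4⟩ := hq
        refine Finset.mem_filter.2 ⟨h2, fun hf => h3 ?_⟩
        rw [h4]
        exact ((M.cls_eq hf.1 haD).1 hf.2).symm
      · intro q hq q' hq' e
        simp only [Finset.mem_filter] at hq hq'
        exact Prod.ext (hq.2.trans hq'.2.symm) e
      · intro b hb
        simp only [Finset.mem_filter] at hb
        refine ⟨(a, b), ?_, rfl⟩
        simp only [hP, Finset.mem_filter, Finset.mem_product]
        exact ⟨⟨⟨ha, hb.1⟩, fun hc => hb.2 ⟨Set.mem_toFinset.1 hb.1,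
          (M.cls_eq _ haD).2 hc.symm⟩⟩, trivial⟩
    rw [Finset.sum_congr rfl this, Finset.sum_const, hDcard, smul_eq_mul]
  let rel : G × G → M.Block → Prop := fun q Θ => M.act q.1 Θ = M.act q.2 Θ ∧ M.act q.1 Θ ≠ Θ
  have habove : ∀ q ∈ P, 2 ≤ ((Finset.univ : Finset M.Block).bipartiteAbove rel q).card := by
    intro q hq
    simp only [hP, Finset.mem_filter, Finset.mem_product, hDf, Set.mem_toFinset] at hq
    obtain ⟨⟨ha, hx⟩, hn⟩ := hq
    have hyp : (q.1 * q.2) ^ p = 1 := M.base.pp ha hx hn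
    obtain ⟨Θ, hΘ⟩ : ∃ Θ, M.act (q.1 * q.2) Θ = Θ := by
      by_contra hno
      push Not at hno
      have hσ : (M.perm (q.1 * q.2)) ^ p ^ 1 = 1 := by rw [pow_one, ← map_pow, hyp, map_one]
      have hmod := Equiv.Perm.card_compl_support_modEq hσ
      have hempty : (M.perm (q.1 * q.2)).supportᶜ = ∅ := by
        ext ω
        simpa [perm] using hno ω
      rw [hempty, Finset.card_empty] at hmod
      exact M.not_dvd_card (Nat.modEq_zero_iff_dvd.1 hmod.symm)
    have heq : M.act q.1 Θ = M.act q.2 Θ := by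
      conv_lhs => rw [← hΘ, M.act_mul, M.act_invol ha]
    have hmove : M.act q.1 Θ ≠ Θ := fun h => hn <| by
      have h' := heq ▸ h
      exact (M.cls_eq ha hx).1 (((M.act_eq_self ha).1 h).trans ((M.act_eq_self hx).1 h').symm)
    refine le_trans (le_of_eq (Finset.card_pair hmove.symm).symm) (Finset.card_le_card ?_)
    intro ω hω
    simp only [Finset.mem_insert, Finset.mem_singleton] at hω
    simp only [Finset.mem_bipartiteAbove, Finset.mem_univ, true_and, rel]
    rcases hω with rfl | rfl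
    · exact ⟨heq, hmove⟩
    · rw [M.act_invol ha, heq, M.act_invol hx]
      exact ⟨rfl, heq ▸ hmove.symm⟩
  have hbelow : ∀ Θ ∈ (Finset.univ : Finset M.Block),
      (P.bipartiteBelow rel Θ).card ≤ (p - 1) * (N * p - p) := by
    intro Θ _
    rw [← hrest Θ]
    refine Finset.card_le_mul_card_image_of_maps_to (f := Prod.fst) ?_ (p - 1) ?_
    · intro q hq
      simp only [Finset.mem_bipartiteBelow, hP, Finset.mem_filter, Finset.mem_product, rel] at hq
      refine Finset.mem_filter.2 ⟨hq.1.1.1, fun hf => hq.2.2 ?_⟩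
      rw [M.act_eq_self hf.1]
      exact hf.2
    · intro a ha
      have hJ : ((M.swap Θ (M.act a Θ)) \ {a}).ncard = p - 1 := by
        have haD : a ∈ D := Set.mem_toFinset.1 (Finset.mem_filter.1 ha).1
        rw [Set.ncard_sdiff_singleton_of_mem (show a ∈ M.swap Θ (M.act a Θ) from ⟨haD, rfl⟩),
          M.swap_ncard, M.fib_eq_p]
      rw [← hJ, Set.ncard_eq_toFinset_card']
      refine Finset.card_le_card_of_injOn Prod.snd ?_ ?_
      · intro q hq
        simp only [Finset.coe_filter, Finset.mem_bipartiteBelow, hP, Finset.mem_filter,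
          Finset.mem_product, rel, Set.mem_setOf_eq] at hq
        obtain ⟨⟨⟨⟨-, h2⟩, h3⟩, h4, -⟩, h5⟩ := hq
        simp only [Set.coe_toFinset, Set.mem_sdiff, Set.mem_singleton_iff]
        exact ⟨⟨Set.mem_toFinset.1 h2, by rw [← h4, h5]⟩, fun e => h3 (by rw [h5, e])⟩
      · intro q hq q' hq' e
        simp only [Finset.coe_filter, Set.mem_setOf_eq] at hq hq'
        exact Prod.ext (hq.2.trans hq'.2.symm) e
  have key := Finset.card_mul_le_card_mul rel habove hbelow
  rw [hPcard, Finset.card_univ, ← hN] at key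
  have hpos : 0 < N * (N * p - p) := by
    have : 2 * p ≤ N * p := Nat.mul_le_mul_right p hN2
    refine Nat.mul_pos (by omega) (by omega)
  have h2 : N * (N * p - p) * (p * 2) ≤ N * (N * p - p) * (p - 1) := by
    calc N * (N * p - p) * (p * 2) = N * p * (N * p - p) * 2 := by ring
      _ ≤ N * ((p - 1) * (N * p - p)) := key
      _ = _ := by ring
  have := Nat.le_of_mul_le_mul_left h2 hpos
  omega

end Minimal

end Cfsg.Agent.PrimeTransp
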