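import Mathlib
import Cfsg.Agent.Lib.PrimeTransp.Count

/-!
# `p`-transposition groups are solvable for `p ≥ 5`
-/

set_option autoImplicit false
set_option linter.unusedSectionVars false
set_option linter.style.haveILetI false

namespace Cfsg.Agent.PrimeTransp

open Subgroup

universe u

/-- If a group is generated by a normal set of involutions in which the product of two non-commuting
members always has the same prime order `p ≥ 5`, then it is solvable. -/
theorem isSolvable {G : Type u} [Group G] [Finite G] {p : ℕ} {D : Set G} (h : Transp p D)
    (hgen : closure D = ⊤) : Group.IsSolvable G := by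
  suffices key : ∀ (n : ℕ) (H : Type u) [Group H] [Finite H] (E : Set H), Nat.card H ≤ n →
      Transp p E → closure E = ⊤ → Group.IsSolvable H from key _ G D le_rfl h hgen
  intro n
  induction n with
  | zero => intro H _ _ E hle; exact absurd hle (Nat.not_le.2 Nat.card_pos)
  | succ n ih =>
    intro H _ _ E hle hE hEgen
    by_contra hns
    have hsub : ∀ S : Set H, S ⊆ E → closure S ≠ ⊤ → Group.IsSolvable ↥(closure S) := by
      intro S hS hne
      have hlt : Nat.card ↥(closure S) < Nat.card H :=
        lt_of_le_of_ne (card_le_card_group _) fun e => hne ((card_eq_iff_eq_top _).1 e)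
      refine ih ↥(closure S) {v : ↥(closure S) | (v : H) ∈ E} (by omega) ?_ ?_
      · refine ⟨hE.prime, hE.five, fun d hd => ?_, fun d hd g => ?_, fun a ha b hb => ?_⟩
        · rw [← Subgroup.orderOf_coe]; exact hE.inv _ hd
        · exact hE.conj _ hd (g : H)
        · rcases hE.prod _ ha _ hb with e | e
          · exact Or.inl (Subtype.ext e.eq)
          · exact Or.inr (by rw [← Subgroup.orderOf_coe]; exact e)
      · refine top_le_iff.1 ?_
        rw [← Subgroup.closure_closure_coe_preimage (k := S)]
        exact closure_mono fun v hv => hS hv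
    have hrad : ∀ N : Subgroup H, N.Normal → Group.IsSolvable ↥N → N = ⊥ := by
      intro N hN hsol
      by_contra hne
      haveI := hN
      haveI := hsol
      set f := QuotientGroup.mk' N with hf
      have hlt : Nat.card (H ⧸ N) < Nat.card H := by
        rw [card_eq_card_quotient_mul_card_subgroup N]
        exact lt_mul_of_one_lt_right Nat.card_pos ((one_lt_card_iff_ne_bot N).2 hne)
      haveI : Group.IsSolvable (H ⧸ N) := by
        refine ih (H ⧸ N) (f '' E \ {1}) (by omega) ?_ ?_
        · refine ⟨hE.prime, hE.five, ?_, ?_, ?_⟩
          · rintro _ ⟨⟨d, hd, rfl⟩, hd1⟩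
            refine orderOf_eq_prime ?_ hd1
            rw [← map_pow, pow_two, hE.sq hd, map_one]
          · rintro _ ⟨⟨d, hd, rfl⟩, hd1⟩ g
            obtain ⟨g, rfl⟩ := QuotientGroup.mk'_surjective N g
            refine ⟨⟨g * d * g⁻¹, hE.conj d hd g, by simp [hf]⟩, fun e => hd1 ?_⟩
            rw [Set.mem_singleton_iff, mul_inv_eq_one] at e
            exact mul_eq_left.1 e
          · rintro _ ⟨⟨a, ha, rfl⟩, -⟩ _ ⟨⟨b, hb, rfl⟩, -⟩
            rcases hE.prod a ha b hb with e | e
            · exact Or.inl (e.map f)
            · rw [← map_mul]
              rcases (Nat.dvd_prime hE.prime).1 (e ▸ orderOf_map_dvd f (a * b)) with e' | e'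
              · refine Or.inl ?_
                rw [orderOf_eq_one_iff, map_mul, mul_eq_one_iff_eq_inv] at e'
                rw [e']
                exact (Commute.refl (f b)).inv_left
              · exact Or.inr e'
        · rw [Subgroup.closure_sdiff_one, ← MonoidHom.map_closure, hEgen,
            map_top_of_surjective f (QuotientGroup.mk'_surjective N)]
      exact hns ((Group.isSolvable_iff_subgroup_quotient N).2 ⟨inferInstance, inferInstance⟩)
    refine (⟨hE, hEgen, hsub, hrad, ?_⟩ : Minimal p E).false
    rw [Set.nonempty_iff_ne_empty]
    intro he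
    rw [he, Subgroup.closure_empty] at hEgen
    exact hns (Group.isSolvable_of_top_eq_bot _ hEgen.symm)

end Cfsg.Agent.PrimeTransp
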