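import Mathlib
import Cfsg.Prelude.Def_TwoFusion
import Cfsg.Agent.Lib.PrimeTransp.Main
import Cfsg.Agent.Lib.ZStar.Main
import Cfsg.Agent.Lib.Involutions.BaerSuzuki
import Cfsg.Agent.S0205

/-!
# A class of involutions with three orbits of a point centraliser

If the solvable radical is trivial, the class consists of 3-transpositions.
-/

set_option autoImplicit false
set_option linter.unusedSectionVars false
set_option linter.style.haveILetI false

namespace Cfsg.Agent.PrimeTransp.RankThree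

open Subgroup

variable {G : Type*} [Group G] [Finite G]

/-- The orbit of `w` under the centraliser of `x`. -/
def orb (x w : G) : Set G := {u : G | ∃ g : G, Commute g x ∧ g * w * g⁻¹ = u}

theorem orb_self (x : G) {u : G} (hu : u ∈ orb x x) : u = x := by
  obtain ⟨g, hg, rfl⟩ := hu
  rw [hg.eq, mul_inv_cancel_right]

theorem commute_of_mem_orb {x u v w : G} (hu : u ∈ orb x w) (hv : v ∈ orb x w) :
    (Commute x u ↔ Commute x v) ∧ orderOf (x * u) = orderOf (x * v) := by
  have key : ∀ t ∈ orb x w,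
      (Commute x t ↔ Commute x w) ∧ orderOf (x * t) = orderOf (x * w) := by
    rintro t ⟨g, hg, rfl⟩
    have hx : g * x * g⁻¹ = x := by rw [hg.eq, mul_inv_cancel_right]
    have e : x * (g * w * g⁻¹) = g * (x * w) * g⁻¹ := by
      conv_lhs => rw [← hx]
      group
    refine ⟨?_, ?_⟩
    · constructor
      · intro h
        have := h.map (MulAut.conj g⁻¹).toMonoidHom
        simp only [MulEquiv.coe_toMonoidHom, MulAut.conj_apply] at this
        rwa [show g⁻¹ * (g * w * g⁻¹) * g⁻¹⁻¹ = w by group,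
          show g⁻¹ * x * g⁻¹⁻¹ = x by
            rw [inv_inv, mul_assoc, ← hg.eq, inv_mul_cancel_left]] at this
      · intro h
        have := h.map (MulAut.conj g).toMonoidHom
        simp only [MulEquiv.coe_toMonoidHom, MulAut.conj_apply] at this
        rwa [hx] at this
    · rw [e]
      exact Involutions.Basic.orderOf_conj g (x * w)
  exact ⟨(key u hu).1.trans (key v hv).1.symm, (key u hu).2.trans (key v hv).2.symm⟩

theorem main (hsol : ∀ N : Subgroup G, N.Normal → Group.IsSolvable ↥N → N = ⊥) {D : Set G}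
    (hinv : ∀ d ∈ D, orderOf d = 2) (hconj : ∀ d ∈ D, ∀ g : G, g * d * g⁻¹ ∈ D)
    (hone : ∀ a ∈ D, ∀ b ∈ D, ∃ g : G, g * a * g⁻¹ = b) (hgen : closure D = ⊤)
    (horb : ∀ x ∈ D, ∃ y z : G, D ⊆ orb x x ∪ orb x y ∪ orb x z) :
    ∀ a ∈ D, ∀ b ∈ D, (a * b) ^ 2 = 1 ∨ (a * b) ^ 3 = 1 := by
  have hsq : ∀ d ∈ D, d * d = 1 := fun d hd => by
    rw [← pow_two, ← hinv d hd, pow_orderOf_eq_one]
  have hne1 : ∀ d ∈ D, d ≠ 1 := fun d hd e => by
    have := hinv d hd
    simp [e] at this
  have hcen : center G = ⊥ :=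
    hsol _ inferInstance (Group.isSolvable_of_comm fun a b => Subtype.ext (mem_center_iff.1 b.2 a))
  have hcentral : ∀ x ∈ D, x ∉ center G := fun x hx hm => hne1 x hx (by
    rw [hcen, mem_bot] at hm; exact hm)
  have hodd : Cfsg.oddCore G = ⊥ :=
    hsol _ inferInstance (Cfsg.Agent.S0205.result InvChar.Core.odd_card_oddCore)
  have hA : ∀ x ∈ D, ∃ a ∈ D, Commute x a ∧ a ≠ x := by
    intro x hx
    by_contra hno
    push Not at hno
    exact hcentral x hx (ZStar.Main.mem_center_of_isolated hodd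
      ⟨hinv x hx, fun g hg => hno _ (hconj x hx g) hg⟩)
  have hB : ∀ x ∈ D, ∃ w ∈ D, ¬ Commute x w := by
    intro x hx
    by_contra hno
    push Not at hno
    refine hcentral x hx (mem_center_iff.2 fun v => ?_)
    have hv : v ∈ closure D := hgen ▸ mem_top v
    induction hv using closure_induction with
    | mem w hw => exact (hno w hw).eq.symm
    | one => simp
    | mul _ _ _ _ h1 h2 => exact (Commute.mul_left h1 h2).eq
    | inv _ _ h1 => exact (Commute.inv_left h1).eq
  have hsame : ∀ x ∈ D, ∀ w ∈ D, ∀ w' ∈ D, ¬ Commute x w → ¬ Commute x w' →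
      orderOf (x * w) = orderOf (x * w') := by
    intro x hx w hw w' hw' hn hn'
    obtain ⟨a, ha, hca, hax⟩ := hA x hx
    obtain ⟨y, z, hD⟩ := horb x hx
    have cases' : ∀ u ∈ D, u ≠ x → u ∈ orb x y ∨ u ∈ orb x z := fun u hu hux => by
      rcases hD hu with (h | h) | h
      exacts [absurd (orb_self x h) hux, Or.inl h, Or.inr h]
    have hwx : w ≠ x := fun e => hn (e ▸ Commute.refl _)
    have hwx' : w' ≠ x := fun e => hn' (e ▸ Commute.refl _)
    rcases cases' a ha hax with h | h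
    · rcases cases' w hw hwx with h1 | h1
      · exact absurd ((commute_of_mem_orb h h1).1.1 hca) hn
      rcases cases' w' hw' hwx' with h2 | h2
      · exact absurd ((commute_of_mem_orb h h2).1.1 hca) hn'
      exact (commute_of_mem_orb h1 h2).2
    · rcases cases' w hw hwx with h1 | h1
      swap
      · exact absurd ((commute_of_mem_orb h h1).1.1 hca) hn
      rcases cases' w' hw' hwx' with h2 | h2
      swap
      · exact absurd ((commute_of_mem_orb h h2).1.1 hca) hn'
      exact (commute_of_mem_orb h1 h2).2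
  intro a₀ ha₀ b₀ hb₀
  by_cases hab : Commute a₀ b₀
  · exact Or.inl (sq_of_commute (hsq a₀ ha₀) (hsq b₀ hb₀) hab)
  right
  obtain ⟨n, hn⟩ : ∃ n, orderOf (a₀ * b₀) = n := ⟨_, rfl⟩
  have hall : ∀ x ∈ D, ∀ w ∈ D, ¬ Commute x w → orderOf (x * w) = n := by
    intro x hx w hw hxw
    obtain ⟨g, hg⟩ := hone x hx a₀ ha₀
    have h1 : ¬ Commute a₀ (g * w * g⁻¹) := by
      rw [← hg]
      intro h
      have := h.map (MulAut.conj g⁻¹).toMonoidHom
      simp only [MulEquiv.coe_toMonoidHom, MulAut.conj_apply] at this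
      rw [show g⁻¹ * (g * x * g⁻¹) * g⁻¹⁻¹ = x by group,
        show g⁻¹ * (g * w * g⁻¹) * g⁻¹⁻¹ = w by group] at this
      exact hxw this
    rw [← hn, hsame a₀ ha₀ b₀ hb₀ _ (hconj w hw g) hab h1, ← hg,
      show g * x * g⁻¹ * (g * w * g⁻¹) = g * (x * w) * g⁻¹ by group, Involutions.Basic.orderOf_conj]
  have hn0 : 0 < n := hn ▸ orderOf_pos _
  have hn3 : 3 ≤ n := by
    by_contra hlt
    have h1 : (a₀ * b₀) ^ 2 = 1 := orderOf_dvd_iff_pow_eq_one.1 (by
      rw [hn]
      have : n = 1 ∨ n = 2 := by omega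
      rcases this with rfl | rfl <;> norm_num)
    exact hab (commute_of_sq (hsq a₀ ha₀) (hsq b₀ hb₀) h1)
  have hns : ¬ Group.IsSolvable G := by
    intro h
    haveI := h
    have := hsol ⊤ inferInstance inferInstance
    exact hne1 a₀ ha₀ (mem_bot.1 (this ▸ mem_top a₀))
  set u := a₀ * b₀ with hu
  have hu' : a₀ * u * a₀ = u⁻¹ := refl_inv (hsq a₀ ha₀) (hsq b₀ hb₀)
  have hrefl : ∀ j : ℕ, ∃ v ∈ D, a₀ * v = u ^ (2 * j) := by
    intro j
    refine ⟨(u ^ j)⁻¹ * a₀ * u ^ j, by simpa using hconj a₀ ha₀ (u ^ j)⁻¹, ?_⟩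
    rw [← refl_pow (hsq a₀ ha₀) hu' j, ← mul_assoc, ← mul_assoc, hsq a₀ ha₀, one_mul, two_mul,
      pow_add]
  have hdiv : ∀ j : ℕ, 2 < orderOf (u ^ (2 * j)) → orderOf (u ^ (2 * j)) = n := by
    intro j hj
    obtain ⟨v, hv, he⟩ := hrefl j
    rw [← he] at hj ⊢
    refine hall a₀ ha₀ v hv fun hc => ?_
    have := orderOf_le_of_pow_eq_one (by norm_num) (sq_of_commute (hsq a₀ ha₀) (hsq v hv) hc)
    omega
  rcases Nat.even_or_odd n with hev | hod
  · exfalso
    have h4 : n = 4 := by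
      have h2 : orderOf (u ^ (2 * 1)) = n / 2 := by
        rw [mul_one, orderOf_pow, hn, Nat.gcd_eq_right hev.two_dvd]
      obtain ⟨m, hm⟩ := hev
      by_contra hne
      have := hdiv 1 (by omega)
      omega
    obtain ⟨h, hh1, hho, hhinv⟩ := Involutions.BaerSuzuki.exists_inverted_odd a₀ (hinv a₀ ha₀)
      fun N hN hN2 hmem => by
        haveI : Fact (Nat.Prime 2) := ⟨Nat.prime_two⟩
        haveI := hN2.isNilpotent
        have := hsol N hN inferInstance
        exact hne1 a₀ ha₀ (mem_bot.1 (this ▸ hmem))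
    obtain ⟨k, hk⟩ := hho
    rw [inv_eq_of_mul_eq_one_left (hsq a₀ ha₀)] at hhinv
    have hv : (h ^ k)⁻¹ * a₀ * h ^ k ∈ D := by simpa using hconj a₀ ha₀ (h ^ k)⁻¹
    have he : a₀ * ((h ^ k)⁻¹ * a₀ * h ^ k) = h ^ (2 * k) := by
      rw [← refl_pow (hsq a₀ ha₀) hhinv k, ← mul_assoc, ← mul_assoc, hsq a₀ ha₀, one_mul, two_mul,
        pow_add]
    have hpow : (h ^ (2 * k)) ^ 4 = 1 := by
      rw [← he]
      by_cases hc : Commute a₀ ((h ^ k)⁻¹ * a₀ * h ^ k)
      · rw [show (4 : ℕ) = 2 * 2 by rfl, pow_mul, sq_of_commute (hsq a₀ ha₀) (hsq _ hv) hc, one_pow]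
      · rw [← h4, ← hall a₀ ha₀ _ hv hc, pow_orderOf_eq_one]
    have hinv' : h ^ (2 * k) = h⁻¹ := by
      apply eq_inv_of_mul_eq_one_left
      rw [← pow_succ, ← hk, pow_orderOf_eq_one]
    rw [hinv', inv_pow, inv_eq_one] at hpow
    have hco : Nat.Coprime (orderOf h) 4 := by
      rw [hk, show (4 : ℕ) = 2 ^ 2 by rfl]
      exact (Nat.coprime_pow_right_iff (by norm_num) _ _).2
        (Nat.coprime_two_right.2 (odd_two_mul_add_one k))
    exact hh1 (orderOf_eq_one_iff.1
      (Nat.eq_one_of_dvd_coprimes hco dvd_rfl (orderOf_dvd_of_pow_eq_one hpow)))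
  · have hq : n.minFac.Prime := Nat.minFac_prime (by omega)
    have hq2 : n.minFac ≠ 2 := fun e => by
      have := Nat.minFac_dvd n
      rw [e] at this
      exact Nat.not_even_iff_odd.2 hod (even_iff_two_dvd.2 this)
    obtain ⟨k, hk⟩ := Nat.minFac_dvd n
    have hk0 : 0 < k := Nat.pos_of_ne_zero fun e => by rw [e, mul_zero] at hk; omega
    have hprime : n.Prime := by
      have h1 : orderOf (u ^ (2 * k)) = n.minFac := by
        rw [orderOf_pow, hn]
        have h2 : Nat.Coprime 2 n := (Nat.coprime_two_right.2 hod).symm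
        rw [Nat.Coprime.gcd_mul_left_cancel_right k h2, Nat.gcd_eq_right ⟨n.minFac, by
          rw [mul_comm]; exact hk⟩]
        exact Nat.div_eq_of_eq_mul_left hk0 hk
      have h3 := hdiv k (by rw [h1]; have := hq.two_le; omega)
      rw [h1] at h3
      exact h3 ▸ hq
    by_cases h3 : n = 3
    · rw [← h3, ← hn, pow_orderOf_eq_one]
    · exfalso
      have h5 : 5 ≤ n := by
        obtain ⟨m, hm⟩ := hod
        omega
      refine hns (PrimeTransp.isSolvable (p := n) ⟨hprime, h5, hinv, hconj, fun a ha b hb => ?_⟩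
        hgen)
      by_cases hc : Commute a b
      exacts [Or.inl hc, Or.inr (hall a ha b hb hc)]

end Cfsg.Agent.PrimeTransp.RankThree
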